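import Mathlib
import Groth.Prelude.Def_DCoh2
import Groth.Prelude.Def_DCoh3
import Groth.Agent.Lib.Helper30.PerfRestrict
import Groth.Agent.Lib.Helper32.OpenKInj
import Groth.Agent.Lib.Helper28.ClosedPush

/-!
# Derived direct image along a closed immersion and restriction to opens (helper30)
-/

set_option autoImplicit false
universe u
open CategoryTheory CategoryTheory.Limits AlgebraicGeometry TopologicalSpace Opposite
attribute [local instance] HasDerivedCategory.standard

namespace Groth.Agent.Lib.Helper30.ClosedPC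

open Scheme.Modules Groth.Agent.Lib.Helper30.PerfRestrict Groth.Agent.Lib.Helper28.ClosedPush

variable {Z X : Scheme.{u}} (i : Z ⟶ X) [IsClosedImmersion i]

/-- termwise direct image of complexes -/
noncomputable abbrev cC : CochainComplex Z.Modules ℤ ⥤ CochainComplex X.Modules ℤ :=
  (pushforward i).mapHomologicalComplex (ComplexShape.up ℤ)

/-- direct image along a closed immersion on derived categories -/
noncomputable abbrev cD : DCoh.D Z ⥤ DCoh.D X := (pushforward i).mapDerivedCategory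

/-- `Q` commutes with direct image along a closed immersion -/
noncomputable abbrev cDQ : DerivedCategory.Q ⋙ cD i ≅ cC i ⋙ DerivedCategory.Q :=
  (pushforward i).mapDerivedCategoryFactors

/-- direct image along a closed immersion commutes with restriction to opens, on complexes -/
noncomputable def cCRestrictIso (W : X.Opens) :
    cC i ⋙ rC W.ι ≅ rC (i ⁻¹ᵁ W).ι ⋙ cC (i ∣_ W) :=
  Functor.mapHomologicalComplexCompIso (Iso.refl _) (ComplexShape.up ℤ) ≪≫
    NatIso.mapHomologicalComplex
      (Groth.Agent.Lib.Helper32.OpenKInj.pushforwardRestrictIso i W) (ComplexShape.up ℤ) ≪≫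
    (Functor.mapHomologicalComplexCompIso (Iso.refl _) (ComplexShape.up ℤ)).symm

/-- direct image along a closed immersion commutes with restriction to opens -/
noncomputable def cDRestrictIso (W : X.Opens) :
    cD i ⋙ rD W.ι ≅ rD (i ⁻¹ᵁ W).ι ⋙ cD (i ∣_ W) := by
  letI : Localization.Lifting DerivedCategory.Q
      (HomologicalComplex.quasiIso Z.Modules (ComplexShape.up ℤ))
      ((cC i ⋙ rC W.ι) ⋙ DerivedCategory.Q) (cD i ⋙ rD W.ι) :=
    ⟨(Functor.associator _ _ _).symm ≪≫ Functor.isoWhiskerRight (cDQ i) (rD W.ι) ≪≫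
      Functor.associator _ _ _ ≪≫ Functor.isoWhiskerLeft (cC i) (rDQ W.ι) ≪≫
      (Functor.associator _ _ _).symm⟩
  letI : Localization.Lifting DerivedCategory.Q
      (HomologicalComplex.quasiIso Z.Modules (ComplexShape.up ℤ))
      ((rC (i ⁻¹ᵁ W).ι ⋙ cC (i ∣_ W)) ⋙ DerivedCategory.Q)
      (rD (i ⁻¹ᵁ W).ι ⋙ cD (i ∣_ W)) :=
    ⟨(Functor.associator _ _ _).symm ≪≫
      Functor.isoWhiskerRight (rDQ (i ⁻¹ᵁ W).ι) (cD (i ∣_ W)) ≪≫
      Functor.associator _ _ _ ≪≫ Functor.isoWhiskerLeft (rC (i ⁻¹ᵁ W).ι) (cDQ (i ∣_ W)) ≪≫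
      (Functor.associator _ _ _).symm⟩
  exact Localization.liftNatIso DerivedCategory.Q
    (HomologicalComplex.quasiIso Z.Modules (ComplexShape.up ℤ))
    ((cC i ⋙ rC W.ι) ⋙ DerivedCategory.Q)
    ((rC (i ⁻¹ᵁ W).ι ⋙ cC (i ∣_ W)) ⋙ DerivedCategory.Q) _ _
    (Functor.isoWhiskerRight (cCRestrictIso i W) DerivedCategory.Q)

end Groth.Agent.Lib.Helper30.ClosedPC
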