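import Mathlib
import Groth.Prelude.Def_DCoh2
import Groth.Prelude.Def_DCoh3
import Groth.Agent.Lib.Helper30.ClosedPC.Restrict

/-!
# Direct image and restriction along open immersions: general cartesian squares (helper30)
-/

set_option autoImplicit false
universe u
open CategoryTheory CategoryTheory.Limits AlgebraicGeometry TopologicalSpace Opposite
attribute [local instance] HasDerivedCategory.standard

namespace Groth.Agent.Lib.Helper30.ClosedPC

open Scheme.Modules Groth.Agent.Lib.Helper30.PerfRestrict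

section Square

variable {Z' Z Y' Y : Scheme.{u}} (u : Z' ⟶ Z) (o : Y' ⟶ Y) [IsOpenImmersion u]
  [IsOpenImmersion o] (j : Z ⟶ Y) (j' : Z' ⟶ Y') (hcomm : u ≫ j = j' ≫ o)
  (hcart : j ⁻¹ᵁ o.opensRange = u.opensRange)

include hcomm hcart in
lemma image_preimage_eq (O : Y'.Opens) : u ''ᵁ (j' ⁻¹ᵁ O) = j ⁻¹ᵁ (o ''ᵁ O) := by
  have hpt : ∀ z' : Z', o (j' z') = j (u z') := fun z' => by
    rw [← Scheme.Hom.comp_apply, ← hcomm, Scheme.Hom.comp_apply]
  ext z
  constructor
  · rintro ⟨z', hz', rfl⟩
    exact ⟨j' z', hz', hpt z'⟩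
  · rintro ⟨y, hy, hyz⟩
    have hz : z ∈ j ⁻¹ᵁ o.opensRange := ⟨y, hyz⟩
    rw [hcart] at hz
    obtain ⟨z', rfl⟩ := hz
    refine ⟨z', ?_, rfl⟩
    have h1 : o (j' z') = o y := (hpt z').trans hyz.symm
    have h2 : j' z' = y := o.isOpenEmbedding.injective h1
    show j' z' ∈ O
    rw [h2]
    exact hy

/-- the natural iso of functors on opens -/
noncomputable def opensIso' :
    Opens.map j'.base ⋙ u.opensFunctor ≅ o.opensFunctor ⋙ Opens.map j.base :=
  NatIso.ofComponents (fun O => eqToIso (image_preimage_eq u o j j' hcomm hcart O)) (fun _ => rfl)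

include hcomm in
lemma app_key (O : Y'.Opens) :
    (o.appIso O).inv ≫ j.app (o ''ᵁ O) ≫
        Z.presheaf.map (eqToHom (image_preimage_eq u o j j' hcomm hcart O)).op =
      j'.app O ≫ (u.appIso (j' ⁻¹ᵁ O)).inv := by
  rw [← cancel_mono (u.appIso (j' ⁻¹ᵁ O)).hom, ← cancel_epi (o.appIso O).hom]
  simp only [Category.assoc, Iso.inv_hom_id, Iso.hom_inv_id_assoc, Category.comp_id]
  rw [Scheme.Hom.appIso_hom', Scheme.Hom.appIso_hom', Scheme.Hom.app_eq_appLE,
    Scheme.Hom.app_eq_appLE]
  rw [Scheme.Hom.appLE_map_assoc, Scheme.Hom.appLE_comp_appLE, Scheme.Hom.appLE_comp_appLE]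
  simp only [hcomm]

set_option backward.isDefEq.respectTransparency.types false in
set_option backward.defeqAttrib.useBackward true in
/-- Direct image commutes with restriction along open immersions, for a cartesian square. -/
noncomputable def pushforwardRestrictIso' :
    pushforward j ⋙ restrictFunctor o ≅ restrictFunctor u ⋙ pushforward j' :=
  letI := CategoryTheory.Functor.isContinuous_comp.{u} o.opensFunctor (Opens.map j.base)
    (Opens.grothendieckTopology Y') (Opens.grothendieckTopology Y)
    (Opens.grothendieckTopology Z)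
  letI := CategoryTheory.Functor.isContinuous_comp.{u} (Opens.map j'.base)
    u.opensFunctor
    (Opens.grothendieckTopology Y')
    (Opens.grothendieckTopology Z')
    (Opens.grothendieckTopology Z)
  (SheafOfModules.pushforwardComp _ _) ≪≫
    SheafOfModules.pushforwardCongr₂ _ (opensIso' u o j j' hcomm hcart) (by
      ext O x
      exact congr($(app_key u o j j' hcomm hcart O.unop) x)) ≪≫
    (SheafOfModules.pushforwardComp _ _).symm

end Square

section Derived

variable {Z' Z Y' Y : Scheme.{u}} (u : Z' ⟶ Z) (o : Y' ⟶ Y) [IsOpenImmersion u]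
  [IsOpenImmersion o] (j : Z ⟶ Y) (j' : Z' ⟶ Y') [IsClosedImmersion j] [IsClosedImmersion j']
  (hcomm : u ≫ j = j' ≫ o) (hcart : j ⁻¹ᵁ o.opensRange = u.opensRange)

/-- direct image along a closed immersion commutes with restriction along open immersions, on
complexes -/
noncomputable def cCRestrictIso' : cC j ⋙ rC o ≅ rC u ⋙ cC j' :=
  Functor.mapHomologicalComplexCompIso (Iso.refl _) (ComplexShape.up ℤ) ≪≫
    NatIso.mapHomologicalComplex (pushforwardRestrictIso' u o j j' hcomm hcart)
      (ComplexShape.up ℤ) ≪≫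
    (Functor.mapHomologicalComplexCompIso (Iso.refl _) (ComplexShape.up ℤ)).symm

/-- direct image along a closed immersion commutes with restriction along open immersions -/
noncomputable def cDRestrictIso' : cD j ⋙ rD o ≅ rD u ⋙ cD j' := by
  letI : Localization.Lifting DerivedCategory.Q
      (HomologicalComplex.quasiIso Z.Modules (ComplexShape.up ℤ))
      ((cC j ⋙ rC o) ⋙ DerivedCategory.Q) (cD j ⋙ rD o) :=
    ⟨(Functor.associator _ _ _).symm ≪≫ Functor.isoWhiskerRight (cDQ j) (rD o) ≪≫
      Functor.associator _ _ _ ≪≫ Functor.isoWhiskerLeft (cC j) (rDQ o) ≪≫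
      (Functor.associator _ _ _).symm⟩
  letI : Localization.Lifting DerivedCategory.Q
      (HomologicalComplex.quasiIso Z.Modules (ComplexShape.up ℤ))
      ((rC u ⋙ cC j') ⋙ DerivedCategory.Q)
      (rD u ⋙ cD j') :=
    ⟨(Functor.associator _ _ _).symm ≪≫
      Functor.isoWhiskerRight (rDQ u) (cD j') ≪≫
      Functor.associator _ _ _ ≪≫ Functor.isoWhiskerLeft (rC u) (cDQ j') ≪≫
      (Functor.associator _ _ _).symm⟩
  exact Localization.liftNatIso DerivedCategory.Q
    (HomologicalComplex.quasiIso Z.Modules (ComplexShape.up ℤ))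
    ((cC j ⋙ rC o) ⋙ DerivedCategory.Q)
    ((rC u ⋙ cC j') ⋙ DerivedCategory.Q) _ _
    (Functor.isoWhiskerRight (cCRestrictIso' u o j j' hcomm hcart) DerivedCategory.Q)

end Derived

end Groth.Agent.Lib.Helper30.ClosedPC
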