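import Mathlib
import Groth.Agent.Lib.Helper6.PCMap

/-!
# `A[X] → A_a`, `X ↦ 1/a` makes `A_a` a pseudo-coherent `A[X]`-module (helper30)
-/

set_option autoImplicit false
universe u
open CategoryTheory Polynomial

namespace Groth.Agent.Lib.Helper30.ClosedPC

open Groth.Agent.Lib.Helper6 Groth.Agent.Lib.Helper6.RestrPC Groth.Agent.Lib.Helper6.MPC

attribute [local instance] HasDerivedCategory.standard

variable (A : Type u) [CommRing A] (a : A) (A' : Type u) [CommRing A'] [Algebra A A']
  [IsLocalization.Away a A']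

/-- `A[X] → A'`, `X ↦ 1/a` -/
noncomputable def awayLift : A[X] →+* A' :=
  Polynomial.eval₂RingHom (algebraMap A A') (IsLocalization.Away.invSelf a)

lemma awayLift_C (b : A) : awayLift A a A' (C b) = algebraMap A A' b := by
  simp [awayLift]

lemma awayLift_X : awayLift A a A' X = IsLocalization.Away.invSelf a := by
  simp [awayLift]

/-- the comparison with `AdjoinRoot` -/
noncomputable def awayAdjoinEquiv : A' ≃ₐ[A] AdjoinRoot (C a * X - 1 : A[X]) :=
  haveI := IsLocalization.adjoin_inv a
  IsLocalization.algEquiv (Submonoid.powers a) A' (AdjoinRoot (C a * X - 1 : A[X]))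

lemma awayAdjoinEquiv_awayLift (p : A[X]) :
    awayAdjoinEquiv A a A' (awayLift A a A' p) = AdjoinRoot.mk (C a * X - 1 : A[X]) p := by
  have h : ((awayAdjoinEquiv A a A' : A' →+* _).comp (awayLift A a A')) =
      AdjoinRoot.mk (C a * X - 1 : A[X]) := by
    apply Polynomial.ringHom_ext
    · intro b
      show awayAdjoinEquiv A a A' (awayLift A a A' (C b)) = _
      rw [awayLift_C, AlgEquiv.commutes]
      rfl
    · show awayAdjoinEquiv A a A' (awayLift A a A' X) = _
      rw [awayLift_X]
      have h1 : AdjoinRoot.of (C a * X - 1 : A[X]) a *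
          awayAdjoinEquiv A a A' (IsLocalization.Away.invSelf a) = 1 := by
        have : awayAdjoinEquiv A a A' (algebraMap A A' a * IsLocalization.Away.invSelf a) = 1 := by
          rw [IsLocalization.Away.mul_invSelf, map_one]
        rw [map_mul, AlgEquiv.commutes] at this
        exact this
      have h2 : AdjoinRoot.of (C a * X - 1 : A[X]) a * AdjoinRoot.root (C a * X - 1 : A[X]) = 1 :=
        AdjoinRoot.root_isInv a
      have h3 : AdjoinRoot.mk (C a * X - 1 : A[X]) X = AdjoinRoot.root (C a * X - 1 : A[X]) :=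
        AdjoinRoot.mk_X
      rw [h3]
      calc awayAdjoinEquiv A a A' (IsLocalization.Away.invSelf a)
          = awayAdjoinEquiv A a A' (IsLocalization.Away.invSelf a) *
            (AdjoinRoot.of (C a * X - 1 : A[X]) a * AdjoinRoot.root (C a * X - 1 : A[X])) := by
              rw [h2, mul_one]
        _ = (AdjoinRoot.of (C a * X - 1 : A[X]) a *
              awayAdjoinEquiv A a A' (IsLocalization.Away.invSelf a)) *
            AdjoinRoot.root (C a * X - 1 : A[X]) := by ring
        _ = AdjoinRoot.root (C a * X - 1 : A[X]) := by rw [h1, one_mul]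
  exact RingHom.congr_fun h p

lemma awayLift_surjective : Function.Surjective (awayLift A a A') := by
  intro z
  obtain ⟨p, hp⟩ := AdjoinRoot.mk_surjective (g := (C a * X - 1 : A[X])) (awayAdjoinEquiv A a A' z)
  refine ⟨p, (awayAdjoinEquiv A a A').injective ?_⟩
  rw [awayAdjoinEquiv_awayLift, hp]

lemma awayLift_eq_zero_iff (p : A[X]) :
    awayLift A a A' p = 0 ↔ (C a * X - 1 : A[X]) ∣ p := by
  rw [← AdjoinRoot.mk_eq_zero, ← awayAdjoinEquiv_awayLift A a A' p]
  exact ((awayAdjoinEquiv A a A').map_eq_zero_iff).symm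

omit [Algebra A A'] [IsLocalization.Away a A'] in
lemma mul_eq_zero_of_away {q : A[X]} (h : (C a * X - 1) * q = 0) : q = 0 := by
  have hq : q = C a * X * q := by linear_combination -h
  have hn : ∀ n : ℕ, q = (C a * X) ^ n * q := by
    intro n
    induction n with
    | zero => simp
    | succ n ih =>
      calc q = (C a * X) ^ n * q := ih
        _ = (C a * X) ^ n * (C a * X * q) := by rw [← hq]
        _ = (C a * X) ^ (n + 1) * q := by ring
  ext k
  rw [hn (k + 1)]
  have h1 : (C a * X) ^ (k + 1) * q = (C (a ^ (k + 1)) * q) * X ^ (k + 1) := by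
    rw [mul_pow, C_pow]; ring
  rw [h1, Polynomial.coeff_mul_X_pow', if_neg (by omega), Polynomial.coeff_zero]

/-- `λ` as a linear map over `A[X]` -/
noncomputable def awayLin :
    (ModuleCat.of A[X] A[X]) →ₗ[A[X]] ((Φ (awayLift A a A')).obj (ModuleCat.of A' A')) where
  toFun p := (awayLift A a A' (p : A[X]) : A')
  map_add' p q := map_add (awayLift A a A') (p : A[X]) (q : A[X])
  map_smul' p q := map_mul (awayLift A a A') (p : A[X]) (q : A[X])

lemma pcMap_awayLift : PCMap (awayLift A a A') := by
  let T : ShortComplex (ModuleCat.{u} A[X]) :=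
    ShortComplex.mk (ModuleCat.ofHom (LinearMap.mulLeft A[X] (C a * X - 1)))
      (ModuleCat.ofHom (awayLin A a A'))
      (by
        ext
        show awayLift A a A' ((C a * X - 1) * 1) = 0
        rw [awayLift_eq_zero_iff]
        exact ⟨1, rfl⟩)
  have hT : T.ShortExact := by
    refine ModuleCat.shortComplex_shortExact T ?_ ?_ ?_
    · intro p
      constructor
      · intro hp
        obtain ⟨q, hq⟩ := (awayLift_eq_zero_iff A a A' (p : A[X])).1 hp
        exact ⟨q, hq.symm⟩
      · rintro ⟨q, rfl⟩
        exact (awayLift_eq_zero_iff A a A' _).2 ⟨(q : A[X]), rfl⟩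
    · intro p q hpq
      have h1 : (C a * X - 1) * ((p : A[X]) - (q : A[X])) = 0 := by
        rw [mul_sub]
        exact sub_eq_zero.2 hpq
      exact sub_eq_zero.1 (mul_eq_zero_of_away A a h1)
    · intro s
      obtain ⟨p, hp⟩ := awayLift_surjective A a A' (show A' from s)
      exact ⟨p, hp⟩
  exact allPC_of_shortExact₃ hT (allPC_self A[X]) (allPC_self A[X])

end Groth.Agent.Lib.Helper30.ClosedPC
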