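import Mathlib
import Groth.Prelude.Def_DCoh2
import Groth.Prelude.Def_DCoh3
import Groth.Agent.Lib.Helper30.PCTriangle
import Groth.Agent.Lib.Helper30.PCNoeth
import Groth.Agent.S0889

/-!
# The triangulated subcategory of pseudo-coherent objects of `D(O_X)` (helper30)
-/

set_option autoImplicit false
universe u
open CategoryTheory CategoryTheory.Limits AlgebraicGeometry TopologicalSpace Opposite
  Pretriangulated ZeroObject
attribute [local instance] HasDerivedCategory.standard

namespace Groth.Agent.Lib.Helper30.ClosedPC

open Groth.Agent.Lib.Helper30.PCTriangle Groth.Agent.Lib.Helper30.PCNoeth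

variable (X : Scheme.{u})

/-- `K` is `m`-pseudo-coherent for every `m` -/
def PCAll : ObjectProperty (DCoh.D X) := fun K => ∀ m : ℤ, DCoh.IsPseudoCoherentD m K

instance : (PCAll X).IsClosedUnderIsomorphisms where
  of_iso e h m := isPseudoCoherentD_of_iso e m (h m)

instance : (PCAll X).ContainsZero where
  exists_zero := ⟨0, isZero_zero _, fun m => by
    have : (0 : DCoh.D X).IsLE (m - 1) := by
      rw [DerivedCategory.isLE_iff]
      intro i _
      exact Functor.map_isZero _ (isZero_zero _)
    exact isPseudoCoherentD_of_isLE 0 (m - 1) m (by omega)⟩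

instance : (PCAll X).IsStableUnderShift ℤ where
  isStableUnderShiftBy n :=
    { le_shift := fun K hK m => by
        have := isPseudoCoherentD_shift K (m + n) n (hK (m + n))
        have e : m + n - n = m := by omega
        rw [e] at this
        exact this }

instance : (PCAll X).IsTriangulatedClosed₂ :=
  ObjectProperty.IsTriangulatedClosed₂.mk' (fun T hT h₁ h₃ m =>
    (Groth.Agent.S0889.result m T hT).2.1 (h₁ m) (h₃ m))

instance : (PCAll X).IsTriangulated where

end Groth.Agent.Lib.Helper30.ClosedPC
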