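import Mathlib
import Groth.Prelude.Def_DCoh2
import Groth.Prelude.Def_DCoh3
import Groth.Agent.Lib.Helper30.ClosedPC.PCAll
import Groth.Agent.Lib.Helper30.ClosedPC.Restrict
import Groth.Agent.Lib.Helper11.ClosedPushFF
import Groth.Agent.S0914

/-!
# Closed immersions with pseudo-coherent structure sheaf: basic lemmas (helper30)
-/

set_option autoImplicit false
universe u
open CategoryTheory CategoryTheory.Limits AlgebraicGeometry TopologicalSpace Opposite
  Pretriangulated ZeroObject
attribute [local instance] HasDerivedCategory.standard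

namespace Groth.Agent.Lib.Helper30.ClosedPC

open Scheme.Modules Groth.Agent.Lib.Helper30.PerfRestrict Groth.Agent.Lib.Helper28.ClosedPush
open Groth.Agent.Lib.Helper30.PCTriangle Groth.Agent.Lib.Helper30.PCNoeth
open Groth.Agent.Lib.Helper30.SinglePC Groth.Agent.Lib.Helper49 Groth.Agent.Lib.Helper6
open Groth.Agent.Lib.Helper45

variable {Z X : Scheme.{u}} (i : Z ⟶ X) [IsClosedImmersion i]

instance faithful_pushforward_closed : (pushforward i).Faithful :=
  Groth.Agent.Lib.Helper11.ClosedPushFF.faithful_pushforward i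

/-- every module on an empty scheme vanishes -/
lemma isZero_of_isEmpty (Y : Scheme.{u}) [IsEmpty Y] (M : Y.Modules) : IsZero M := by
  rw [isZero_iff_sections_subsingleton]
  intro O
  exact subsingleton_sections_of_eq_bot M (by ext x; exact isEmptyElim x)

/-- every object of the derived category of an empty scheme is pseudo-coherent -/
lemma pcAll_of_isEmpty (Y : Scheme.{u}) [IsEmpty Y] (K : DCoh.D Y) : PCAll Y K := by
  intro m
  have : K.IsLE (m - 1) := by
    rw [DerivedCategory.isLE_iff]
    intro j _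
    exact isZero_of_isEmpty Y _
  exact isPseudoCoherentD_of_isLE K (m - 1) m (by omega)

/-- the hypothesis that `i_* O_Z` is pseudo-coherent -/
def HO : Prop := PCAll X (DCoh.inD X ((pushforward i).obj (Coh.structureModule Z)))

/-- `(i_* O_Z)|_W ≅ (i|_W)_* O` -/
noncomputable def pushUnitRestrictIso (W : X.Opens) :
    ((pushforward i).obj (Coh.structureModule Z)).restrict W.ι ≅
      (pushforward (i ∣_ W)).obj (Coh.structureModule ((i ⁻¹ᵁ W : Z.Opens) : Scheme.{u})) :=
  (Groth.Agent.Lib.Helper32.OpenKInj.pushforwardRestrictIso i W).app (Coh.structureModule Z) ≪≫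
    (pushforward (i ∣_ W)).mapIso (Scheme.Modules.restrictUnitIso (i ⁻¹ᵁ W).ι)

lemma HO.restrict (h : HO i) (W : X.Opens) : HO (i ∣_ W) := by
  intro m
  have h1 := Groth.Agent.S0914.isPseudoCoherentD_restrict W.ι m _ (h m)
  exact isPseudoCoherentD_of_iso (restrictSingleIso W.ι _ ≪≫
    (DerivedCategory.singleFunctor _ 0).mapIso (pushUnitRestrictIso i W)) m h1

/-- a module placed in degree `n`, in terms of degree `0` -/
noncomputable def singleShiftIso (Y : Scheme.{u}) (M : Y.Modules) (n : ℤ) :
    ((DCoh.inD Y M)⟦-n⟧) ≅ (DerivedCategory.singleFunctor Y.Modules n).obj M :=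
  ((DerivedCategory.singleFunctors Y.Modules).shiftIso (-n) n 0 (by omega)).app M

lemma pcAll_cD_single_unit (h : HO i) (n : ℤ) :
    PCAll X ((cD i).obj ((DerivedCategory.singleFunctor Z.Modules n).obj
      (Coh.structureModule Z))) := by
  have h1 : PCAll X ((DCoh.inD X ((pushforward i).obj (Coh.structureModule Z)))⟦-n⟧) :=
    (PCAll X).le_shift (-n) _ h
  exact (PCAll X).prop_of_iso (singleShiftIso X _ n ≪≫
    (((pushforward i).mapDerivedCategorySingleFunctor n).app (Coh.structureModule Z)).symm) h1

lemma pcAll_cD_single_freeMod (h : HO i) (r : ℕ) (n : ℤ) :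
    PCAll X ((cD i).obj ((DerivedCategory.singleFunctor Z.Modules n).obj
      (FlatMod.freeMod Z r))) := by
  let G : Z.Modules ⥤ DCoh.D X := DerivedCategory.singleFunctor Z.Modules n ⋙ cD i
  let f : Fin r → Z.Modules := fun _ => Coh.structureModule Z
  haveI : HasFiniteBiproducts Z.Modules := Abelian.hasFiniteBiproducts
  have e : FlatMod.freeMod Z r ≅ ∏ᶜ f :=
    (biproduct.isoCoproduct f).symm ≪≫ biproduct.isoProduct f
  have e' : G.obj (FlatMod.freeMod Z r) ≅ ∏ᶜ fun j => G.obj (f j) :=
    G.mapIso e ≪≫ PreservesProduct.iso G f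
  exact (PCAll X).prop_of_iso e'.symm
    ((PCAll X).prop_product fun j => pcAll_cD_single_unit i h n)

/-- a finite locally free module placed in any degree is pseudo-coherent -/
lemma pcAll_single_of_isFinLocFree (Y : Scheme.{u}) (M : Y.Modules)
    (hM : FlatMod.IsFinLocFree M) (n : ℤ) :
    PCAll Y ((DerivedCategory.singleFunctor Y.Modules n).obj M) := by
  have h0 : PCAll Y (DCoh.inD Y M) := fun m =>
    Groth.Agent.Lib.Helper30.PCSummand.isPseudoCoherentD_of_pcObj ((perfObj_single M hM).pcObj m)
  exact (PCAll Y).prop_of_iso (singleShiftIso Y M n) ((PCAll Y).le_shift (-n) _ h0)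

/-- an object with a pseudo-coherence witness is bounded above -/
lemma exists_isLE_of_pcObj {U : Scheme.{u}} {m : ℤ} {L : DCoh.D U} (h : PCObj m L) :
    ∃ b : ℤ, L.IsLE b := by
  obtain ⟨P, α, ⟨⟨a, b, hab⟩, hfl⟩, h1, h2⟩ := h
  refine ⟨max b m, ?_⟩
  rw [DerivedCategory.isLE_iff]
  intro j hj
  have hz : IsZero (P.homology j) :=
    ShortComplex.isZero_homology_of_isZero_X₂ _ (hab j (Or.inr (by omega)))
  have := h1 j (by omega)
  exact hz.of_iso ((asIso ((DerivedCategory.homologyFunctor _ j).map α)).symm ≪≫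
    (DerivedCategory.homologyFunctorFactors _ j).app P)

end Groth.Agent.Lib.Helper30.ClosedPC
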