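import Mathlib
import Groth.Prelude.Def_DCoh2
import Groth.Prelude.Def_DCoh3
import Groth.Agent.Lib.Helper30.ClosedPC.Basics

/-!
# Local lifting of generators of the top cohomology sheaf (helper30)
-/

set_option autoImplicit false
universe u
open CategoryTheory CategoryTheory.Limits AlgebraicGeometry TopologicalSpace Opposite
  Pretriangulated ZeroObject
attribute [local instance] HasDerivedCategory.standard

namespace Groth.Agent.Lib.Helper30.ClosedPC

open Scheme.Modules Groth.Agent.Lib.Helper30.PerfRestrict Groth.Agent.Lib.Helper28.ClosedPush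
open Groth.Agent.Lib.Helper30.PCTriangle Groth.Agent.Lib.Helper30.PCNoeth
open Groth.Agent.Lib.Helper30.SinglePC Groth.Agent.Lib.Helper49 Groth.Agent.Lib.Helper6
open Groth.Agent.Lib.Helper45

variable {U : Scheme.{u}}

lemma isStrictlyPerfect_single' (M : U.Modules) (hM : FlatMod.IsFinLocFree M) (n : ℤ) :
    DCoh.IsStrictlyPerfect ((CochainComplex.singleFunctor U.Modules n).obj M) := by
  refine ⟨⟨n, n, fun j hj => ?_⟩, fun j => ?_⟩
  · exact HomologicalComplex.isZero_single_obj_X (ComplexShape.up ℤ) n M j (by omega)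
  · by_cases hj : j = n
    · subst hj
      exact Groth.Agent.Lib.Helper14.isFinLocFree_of_iso
        (HomologicalComplex.singleObjXSelf (ComplexShape.up ℤ) j M).symm hM
    · exact isFinLocFree_of_isZero
        (HomologicalComplex.isZero_single_obj_X (ComplexShape.up ℤ) n M j hj)

lemma epi_homology_single_map' {C : Type*} [Category C] [Abelian C] [HasDerivedCategory C]
    {M N : C} (f : M ⟶ N) [Epi f] (n : ℤ) :
    Epi ((DerivedCategory.homologyFunctor C n).map
      ((DerivedCategory.singleFunctor C n).map f)) := by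
  have h' : (DerivedCategory.homologyFunctor C n).map ((DerivedCategory.singleFunctor C n).map f) =
      (homologySingleIso' C n).hom.app M ≫ f ≫ (homologySingleIso' C n).inv.app N := by
    have := (homologySingleIso' C n).hom.naturality f
    simp only [Functor.comp_map, Functor.id_map] at this
    rw [← Category.assoc, ← this, Category.assoc, Iso.hom_inv_id_app, Category.comp_id]
  rw [h']
  infer_instance

/-- local lifting of a finite system of generators of the top cohomology sheaf -/
theorem exists_lift_epi (E : DCoh.D U) (n : ℤ) [E.IsLE n] (r : ℕ)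
    (π : FlatMod.freeMod U r ⟶ DCoh.HD E n) [Epi π] (x : U) :
    ∃ (V : U.Opens) (_ : x ∈ V)
      (β : (DerivedCategory.singleFunctor _ n).obj (FlatMod.freeMod V r) ⟶ (rD V.ι).obj E),
      Epi ((DerivedCategory.homologyFunctor _ n).map β) := by
  let t := DerivedCategory.TStructure.t (C := U.Modules)
  let T := (t.triangleLEGE (n - 1) n (by omega)).obj E
  have hT : T ∈ distTriang _ := t.triangleLEGE_distinguished (n - 1) n (by omega) E
  have hle1 : T.obj₁.IsLE (n - 1) := inferInstanceAs (t.IsLE ((t.truncLE (n - 1)).obj E) (n - 1))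
  have hge3 : T.obj₃.IsGE n := inferInstanceAs (t.IsGE ((t.truncGE n).obj E) n)
  have hle3 : T.obj₃.IsLE n := inferInstanceAs (t.IsLE ((t.truncGE n).obj E) n)
  let f : E ⟶ T.obj₃ := T.mor₂
  have hf : ∀ j : ℤ, n ≤ j → IsIso ((DerivedCategory.homologyFunctor _ j).map f) := fun j hj =>
    isIso_homology_mor₂ T hT j (j + 1) rfl
      (DerivedCategory.isZero_of_isLE T.obj₁ (n - 1) j (by omega))
      (DerivedCategory.isZero_of_isLE T.obj₁ (n - 1) (j + 1) (by omega))
  obtain ⟨Y, ⟨e⟩⟩ := DerivedCategory.exists_iso_singleFunctor_obj_of_isGE_of_isLE T.obj₃ n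
  have := hf n le_rfl
  let θ : DCoh.HD E n ≅ Y := asIso ((DerivedCategory.homologyFunctor _ n).map f) ≪≫
    (DerivedCategory.homologyFunctor _ n).mapIso e ≪≫ (homologySingleIso' U.Modules n).app Y
  let P := (CochainComplex.singleFunctor U.Modules n).obj (FlatMod.freeMod U r)
  have hP : DCoh.IsStrictlyPerfect P := isStrictlyPerfect_single' _ (isFinLocFree_freeMod U r) n
  have hPa : ∀ j : ℤ, j < n → IsZero (P.X j) := fun j hj =>
    HomologicalComplex.isZero_single_obj_X (ComplexShape.up ℤ) n _ j (by omega)
  let ι₀ : DerivedCategory.Q.obj P ≅ (DerivedCategory.singleFunctor _ n).obj (FlatMod.freeMod U r) :=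
    ((DerivedCategory.singleFunctorIsoCompQ U.Modules n).app _).symm
  let α : DerivedCategory.Q.obj P ⟶ T.obj₃ :=
    ι₀.hom ≫ (DerivedCategory.singleFunctor _ n).map (π ≫ θ.hom) ≫ e.inv
  have hα : Epi ((DerivedCategory.homologyFunctor _ n).map α) := by
    have h1 : Epi ((DerivedCategory.homologyFunctor _ n).map
        ((DerivedCategory.singleFunctor _ n).map (π ≫ θ.hom))) := epi_homology_single_map' _ n
    have h2 : Epi ((DerivedCategory.homologyFunctor _ n).map
        ((DerivedCategory.singleFunctor _ n).map (π ≫ θ.hom)) ≫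
        (DerivedCategory.homologyFunctor _ n).map e.inv) := epi_comp _ _
    have h3 : (DerivedCategory.homologyFunctor _ n).map α =
        (DerivedCategory.homologyFunctor _ n).map ι₀.hom ≫
        (DerivedCategory.homologyFunctor _ n).map
          ((DerivedCategory.singleFunctor _ n).map (π ≫ θ.hom)) ≫
        (DerivedCategory.homologyFunctor _ n).map e.inv := by
      rw [← Functor.map_comp, ← Functor.map_comp]
    rw [h3]
    exact epi_comp _ _
  obtain ⟨nb, β, hβ⟩ := locLift hP n hPa f (fun j hj => hf j hj.le) inferInstance α x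
  let V : U.Opens := nb.j.opensRange
  let k : (V : Scheme.{u}) ⟶ nb.V := nb.j.isoOpensRange.inv
  have hk : k ≫ nb.j = V.ι := nb.j.isoOpensRange_inv_comp
  let φ := rDFac k nb.j V.ι hk
  have hβ1 : Epi ((DerivedCategory.homologyFunctor _ n).map β) := by
    have h1 : Epi ((DerivedCategory.homologyFunctor _ n).map (β ≫ (rD nb.j).map f)) := by
      rw [hβ]
      exact ExactDC.epi_homology_map α n hα
    have h2 : IsIso ((DerivedCategory.homologyFunctor _ n).map ((rD nb.j).map f)) :=
      ExactDC.isIso_homology_map f n (hf n le_rfl)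
    rw [Functor.map_comp] at h1
    have h3 : (DerivedCategory.homologyFunctor _ n).map β =
        ((DerivedCategory.homologyFunctor _ n).map β ≫
          (DerivedCategory.homologyFunctor _ n).map ((rD nb.j).map f)) ≫
        inv ((DerivedCategory.homologyFunctor _ n).map ((rD nb.j).map f)) := by simp
    rw [h3]
    infer_instance
  have hβ2 : Epi ((DerivedCategory.homologyFunctor _ n).map ((rD k).map β)) :=
    ExactDC.epi_homology_map β n hβ1
  let ι₁ : (DerivedCategory.singleFunctor _ n).obj (FlatMod.freeMod V r) ≅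
      (rD V.ι).obj (DerivedCategory.Q.obj P) :=
    (DerivedCategory.singleFunctor _ n).mapIso (restrictFreeIso r V.ι).symm ≪≫
      (((Scheme.Modules.restrictFunctor V.ι).mapDerivedCategorySingleFunctor n).app _).symm ≪≫
      (rD V.ι).mapIso ι₀.symm
  refine ⟨V, nb.mem_range, ι₁.hom ≫ (φ _).hom ≫ (rD k).map β ≫ (φ _).inv, ?_⟩
  have h4 : Epi ((DerivedCategory.homologyFunctor _ n).map ((rD k).map β) ≫
      (DerivedCategory.homologyFunctor _ n).map (φ E).inv) := epi_comp _ _
  have h5 : Epi ((DerivedCategory.homologyFunctor _ n).map (φ _).hom ≫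
      (DerivedCategory.homologyFunctor _ n).map ((rD k).map β) ≫
      (DerivedCategory.homologyFunctor _ n).map (φ E).inv) := epi_comp _ _
  rw [Functor.map_comp, Functor.map_comp, Functor.map_comp]
  exact epi_comp _ _

end Groth.Agent.Lib.Helper30.ClosedPC
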