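import Mathlib
import Groth.Prelude.Def_DCoh2
import Groth.Prelude.Def_DCoh3
import Groth.Agent.Lib.Helper30.ClosedPC.Basics
import Groth.Agent.Lib.Helper45.RefHullBasic
import Groth.Agent.Lib.Helper5.ProjLoc

/-!
# Local generators adapted to a closed immersion (helper30)
-/

set_option autoImplicit false
universe u
open CategoryTheory CategoryTheory.Limits AlgebraicGeometry TopologicalSpace Opposite
attribute [local instance] HasDerivedCategory.standard

namespace Groth.Agent.Lib.Helper30.ClosedPC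

open Scheme.Modules Groth.Agent.Lib.Helper49 Groth.Agent.Lib.Helper45

variable {Z X : Scheme.{u}} (i : Z ⟶ X) [IsClosedImmersion i]

/-- `M` is generated by finitely many sections over the inverse images of small opens of `X` -/
def LocGen (M : Z.Modules) : Prop :=
  ∀ z : Z, ∃ (W : X.Opens) (r : ℕ)
    (π : FlatMod.freeMod ((i ⁻¹ᵁ W : Z.Opens) : Scheme.{u}) r ⟶ M.restrict (i ⁻¹ᵁ W).ι),
    i z ∈ W ∧ Epi π

lemma exists_preimage_eq (V : Z.Opens) : ∃ W : X.Opens, i ⁻¹ᵁ W = V := by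
  obtain ⟨t, ht, hV⟩ := i.isClosedEmbedding.isInducing.isOpen_iff.mp V.2
  exact ⟨⟨t, ht⟩, Opens.ext hV⟩

lemma locGen_aux (M : Z.Modules) (z : Z) (V : Z.Opens) (hz : z ∈ V) (n : ℕ)
    (π : FlatMod.freeMod (V : Scheme.{u}) n ⟶ M.restrict V.ι) (hπ : Epi π) :
    ∃ (W : X.Opens) (r : ℕ)
      (π : FlatMod.freeMod ((i ⁻¹ᵁ W : Z.Opens) : Scheme.{u}) r ⟶ M.restrict (i ⁻¹ᵁ W).ι),
      i z ∈ W ∧ Epi π := by
  obtain ⟨W, rfl⟩ := exists_preimage_eq i V
  exact ⟨W, n, π, hz, hπ⟩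

lemma locGen_of_isFT (M : Z.Modules) (hM : CohB1.IsFT M) : LocGen i M := by
  intro z
  obtain ⟨ι, U, hU, hG⟩ := exists_cover_of_isFiniteType M hM
  obtain ⟨j, hzj⟩ := hU.exists_mem z
  obtain ⟨G, hGfin⟩ := hG j
  have : Finite G.I := hGfin.finite
  obtain ⟨n, π, hπ⟩ := RefHullBasic.exists_epi_freeMod_of_generatingSections G
  exact locGen_aux i M z (U j) hzj n π hπ

lemma locGen_of_isFT_pushforward (M : Z.Modules)
    (hM : CohB1.IsFT ((pushforward i).obj M)) : LocGen i M := by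
  intro z
  obtain ⟨ι, U, hU, hG⟩ := exists_cover_of_isFiniteType _ hM
  obtain ⟨j, hzj⟩ := hU.exists_mem (i z)
  obtain ⟨G, hGfin⟩ := hG j
  have : Finite G.I := hGfin.finite
  obtain ⟨n, π, hπ⟩ := RefHullBasic.exists_epi_freeMod_of_generatingSections G
  let W := U j
  let e := (Groth.Agent.Lib.Helper32.OpenKInj.pushforwardRestrictIso i W).app M
  let adj := Scheme.Modules.pullbackPushforwardAdjunction (i ∣_ W)
  let π' : FlatMod.freeMod (W : Scheme.{u}) n ⟶
      (pushforward (i ∣_ W)).obj (M.restrict (i ⁻¹ᵁ W).ι) := π ≫ e.hom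
  have hπ' : Epi π' := epi_comp _ _
  let ψ := (adj.homEquiv _ _).symm π'
  have h1 : π' = adj.unit.app _ ≫ (pushforward (i ∣_ W)).map ψ := by
    have := (adj.homEquiv _ _).apply_symm_apply π'
    rw [Adjunction.homEquiv_unit] at this
    exact this.symm
  have h2 : Epi ((pushforward (i ∣_ W)).map ψ) := by
    rw [h1] at hπ'
    exact epi_of_epi (adj.unit.app _) _
  have h3 : Epi ψ := (pushforward (i ∣_ W)).epi_of_epi_map h2
  exact ⟨W, n, (Groth.Agent.Lib.Helper5.ProjLoc.pullbackFreeIso (i ∣_ W) n).inv ≫ ψ, hzj,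
    epi_comp _ _⟩

end Groth.Agent.Lib.Helper30.ClosedPC
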