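import Mathlib
import Groth.Prelude.Def_DCoh2
import Groth.Prelude.Def_DCoh3
import Groth.Agent.Lib.Helper30.ClosedPC.Basics
import Groth.Agent.Lib.Helper30.ClosedPC.Lift
import Groth.Agent.Lib.Helper30.ClosedPC.LocGen
import Groth.Agent.S0890
import Groth.Agent.Lib.Helper30.RelTorRestrict

/-!
# Pseudo-coherence and direct image along a closed immersion with pseudo-coherent
structure sheaf (helper30)

`pc_iff`: for a closed immersion `i : Z ⟶ X` such that `i_* O_Z` is pseudo-coherent and any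
`E ∈ D(O_Z)`, `E` is `m`-pseudo-coherent iff `i_* E` is.
-/

set_option autoImplicit false
universe u
open CategoryTheory CategoryTheory.Limits AlgebraicGeometry TopologicalSpace Opposite
  Pretriangulated ZeroObject
attribute [local instance] HasDerivedCategory.standard

namespace Groth.Agent.Lib.Helper30.ClosedPC

open Scheme.Modules Groth.Agent.Lib.Helper30.PerfRestrict Groth.Agent.Lib.Helper28.ClosedPush
open Groth.Agent.Lib.Helper30.PCTriangle Groth.Agent.Lib.Helper30.PCNoeth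
open Groth.Agent.Lib.Helper30.SinglePC Groth.Agent.Lib.Helper49 Groth.Agent.Lib.Helper6
open Groth.Agent.Lib.Helper45

variable {Z X : Scheme.{u}} (i : Z ⟶ X) [IsClosedImmersion i]

/-- pseudo-coherence of `i_* E` may be checked on the opens `W` of `X` meeting `Z` -/
theorem pc_cD_of_local (E : DCoh.D Z) (m : ℤ)
    (h : ∀ z : Z, ∃ W : X.Opens, i z ∈ W ∧
      DCoh.IsPseudoCoherentD m ((cD (i ∣_ W)).obj ((rD (i ⁻¹ᵁ W).ι).obj E))) :
    DCoh.IsPseudoCoherentD m ((cD i).obj E) := by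
  apply Groth.Agent.Lib.Helper30.RelTorRestrict.isPseudoCoherentD_of_cover
  intro x
  by_cases hx : x ∈ Set.range i
  · obtain ⟨z, rfl⟩ := hx
    obtain ⟨W, hzW, hW⟩ := h z
    exact ⟨W, W.ι, inferInstance, ⟨⟨i z, hzW⟩, rfl⟩,
      isPseudoCoherentD_of_iso ((cDRestrictIso i W).app E).symm m hW⟩
  · let W : X.Opens := ⟨(Set.range i)ᶜ, i.isClosedEmbedding.isClosed_range.isOpen_compl⟩
    have hempty : IsEmpty ((i ⁻¹ᵁ W : Z.Opens) : Scheme.{u}) := by
      refine ⟨fun ⟨z, hz⟩ => hz ⟨z, rfl⟩⟩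
    refine ⟨W, W.ι, inferInstance, ⟨⟨x, hx⟩, rfl⟩,
      isPseudoCoherentD_of_iso ((cDRestrictIso i W).app E).symm m ?_⟩
    have h1 : ((rD (i ⁻¹ᵁ W).ι).obj E).IsLE (m - 1) := by
      rw [DerivedCategory.isLE_iff]
      intro j _
      exact isZero_of_isEmpty _ _
    have h2 : ((rD (i ⁻¹ᵁ W).ι ⋙ cD (i ∣_ W)).obj E).IsLE (m - 1) :=
      ExactDC.isLE_obj (F := pushforward (i ∣_ W)) ((rD (i ⁻¹ᵁ W).ι).obj E) (m - 1)
    exact isPseudoCoherentD_of_isLE _ (m - 1) m (by omega)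

omit [IsClosedImmersion i] in
/-- pseudo-coherence of `E` may be checked on the inverse images of opens of `X` -/
theorem pc_of_local (E : DCoh.D Z) (m : ℤ)
    (h : ∀ z : Z, ∃ W : X.Opens, i z ∈ W ∧
      DCoh.IsPseudoCoherentD m ((rD (i ⁻¹ᵁ W).ι).obj E)) :
    DCoh.IsPseudoCoherentD m E := by
  apply Groth.Agent.Lib.Helper30.RelTorRestrict.isPseudoCoherentD_of_cover
  intro z
  obtain ⟨W, hzW, hW⟩ := h z
  exact ⟨_, (i ⁻¹ᵁ W).ι, inferInstance, ⟨⟨z, hzW⟩, rfl⟩, hW⟩

/-- local-to-global for the equivalence -/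
theorem iff_of_local (E : DCoh.D Z) (m : ℤ)
    (h : ∀ z : Z, ∃ W : X.Opens, i z ∈ W ∧
      (DCoh.IsPseudoCoherentD m ((rD (i ⁻¹ᵁ W).ι).obj E) ↔
        DCoh.IsPseudoCoherentD m ((cD (i ∣_ W)).obj ((rD (i ⁻¹ᵁ W).ι).obj E)))) :
    DCoh.IsPseudoCoherentD m E ↔ DCoh.IsPseudoCoherentD m ((cD i).obj E) := by
  constructor
  · intro hE
    apply pc_cD_of_local
    intro z
    obtain ⟨W, hzW, hW⟩ := h z
    exact ⟨W, hzW, hW.mp (Groth.Agent.S0914.isPseudoCoherentD_restrict _ m E hE)⟩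
  · intro hE
    apply pc_of_local i
    intro z
    obtain ⟨W, hzW, hW⟩ := h z
    refine ⟨W, hzW, hW.mpr ?_⟩
    exact isPseudoCoherentD_of_iso ((cDRestrictIso i W).app E) m
      (Groth.Agent.S0914.isPseudoCoherentD_restrict W.ι m _ hE)

/-- the induction statement -/
def KLat (k : ℕ) : Prop :=
  ∀ {Z X : Scheme.{u}} (i : Z ⟶ X) [IsClosedImmersion i], HO i →
    ∀ (E : DCoh.D Z) (n m : ℤ), E.IsLE n → n < m + k →
      (DCoh.IsPseudoCoherentD m E ↔ DCoh.IsPseudoCoherentD m ((cD i).obj E))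

lemma isIso_of_isZero {C : Type*} [Category C] [HasZeroMorphisms C] {A B : C} (f : A ⟶ B)
    (hA : IsZero A) (hB : IsZero B) : IsIso f :=
  ⟨⟨0, hA.eq_of_src _ _, hB.eq_of_src _ _⟩⟩

/-- the key step, when the top cohomology sheaf is globally generated by finitely many sections:
after localizing there is a triangle `O^r[-n] → E → C` with `C ∈ D^{≤ n-1}` -/
theorem local_iff_of_epi (k : ℕ) (ih : KLat.{u} k) (hO : HO i) (E : DCoh.D Z) (n m : ℤ)
    [E.IsLE n] (hn : n < m + k + 1) (r : ℕ) (π : FlatMod.freeMod Z r ⟶ DCoh.HD E n) [Epi π]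
    (z : Z) : ∃ W : X.Opens, i z ∈ W ∧
      (DCoh.IsPseudoCoherentD m ((rD (i ⁻¹ᵁ W).ι).obj E) ↔
        DCoh.IsPseudoCoherentD m ((cD (i ∣_ W)).obj ((rD (i ⁻¹ᵁ W).ι).obj E))) := by
  obtain ⟨V, hzV, β, hβ⟩ := exists_lift_epi E n r π z
  obtain ⟨W, rfl⟩ := exists_preimage_eq i V
  refine ⟨W, hzV, ?_⟩
  obtain ⟨C, g, h, hT⟩ := distinguished_cocone_triangle β
  have hE₂ : ((rD (i ⁻¹ᵁ W).ι).obj E).IsLE n := ExactDC.isLE_obj _ n
  have hC : C.IsLE (n - 1) := by
    rw [DerivedCategory.isLE_iff]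
    intro j hj
    refine isZero_homology_cone β g h hT n (fun j hj => ?_) hβ j (by omega)
    exact isIso_of_isZero _ (DerivedCategory.isZero_of_isLE _ n j hj)
      (DerivedCategory.isZero_of_isLE _ n j hj)
  have ih' := ih (i ∣_ W) (hO.restrict i W) C (n - 1) m hC (by omega)
  have hS := pcAll_single_of_isFinLocFree _ _
    (isFinLocFree_freeMod ((i ⁻¹ᵁ W : Z.Opens) : Scheme.{u}) r) n
  have hΦS := pcAll_cD_single_freeMod (i ∣_ W) (hO.restrict i W) r n
  have hΦT := (cD (i ∣_ W)).map_distinguished _ hT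
  constructor
  · intro hE
    have h1 : DCoh.IsPseudoCoherentD m C := isPseudoCoherentD_obj₃ _ hT m (hS (m + 1)) hE
    exact (Groth.Agent.S0889.result m _ hΦT).2.1 (hΦS m) (ih'.mp h1)
  · intro hE
    have h1 : DCoh.IsPseudoCoherentD m ((cD (i ∣_ W)).obj C) :=
      isPseudoCoherentD_obj₃ _ hΦT m (hΦS (m + 1)) hE
    exact (Groth.Agent.S0889.result m _ hT).2.1 (hS m) (ih'.mpr h1)

/-- the key step, when the top cohomology sheaf is locally generated by finitely many sections -/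
theorem iff_of_locGen (k : ℕ) (ih : KLat.{u} k) (hO : HO i) (E : DCoh.D Z) (n m : ℤ)
    [E.IsLE n] (hn : n < m + k + 1) (hgen : LocGen i (DCoh.HD E n)) :
    DCoh.IsPseudoCoherentD m E ↔ DCoh.IsPseudoCoherentD m ((cD i).obj E) := by
  apply iff_of_local
  intro z
  obtain ⟨W, r, π, hzW, hπ⟩ := hgen z
  refine ⟨W, hzW, ?_⟩
  have hE₂ : ((rD (i ⁻¹ᵁ W).ι).obj E).IsLE n := ExactDC.isLE_obj _ n
  let π' : FlatMod.freeMod ((i ⁻¹ᵁ W : Z.Opens) : Scheme.{u}) r ⟶
      DCoh.HD ((rD (i ⁻¹ᵁ W).ι).obj E) n := π ≫ (homologyRestrictIso (i ⁻¹ᵁ W).ι E n).inv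
  have hπ' : Epi π' := epi_comp _ _
  apply iff_of_local
  exact local_iff_of_epi (i ∣_ W) k ih (hO.restrict i W) _ n m hn r π'

theorem klat (k : ℕ) : KLat.{u} k := by
  induction k with
  | zero =>
    intro Z X i _ hO E n m hE hn
    have hn' : n < m := by simpa using hn
    have := ExactDC.isLE_obj (F := pushforward i) E n
    exact ⟨fun _ => isPseudoCoherentD_of_isLE _ n m hn', fun _ => isPseudoCoherentD_of_isLE _ n m hn'⟩
  | succ k ih =>
    intro Z X i _ hO E n m hE hn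
    have hΦ := ExactDC.isLE_obj (F := pushforward i) E n
    by_cases hnm : n < m
    · exact ⟨fun _ => isPseudoCoherentD_of_isLE _ n m hnm,
        fun _ => isPseudoCoherentD_of_isLE _ n m hnm⟩
    have hmn : m ≤ n := by omega
    constructor
    · intro h
      have h1 : CohB1.IsFT (DCoh.HD E n) :=
        (Groth.Agent.S0890.result n E (isPseudoCoherentD_mono hmn E h)).1
          (fun j hj => DerivedCategory.isZero_of_isLE E n j hj)
      exact (iff_of_locGen i k ih hO E n m (by push_cast at hn; omega)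
        (locGen_of_isFT i _ h1)).mp h
    · intro h
      have h1 : CohB1.IsFT (DCoh.HD ((cD i).obj E) n) :=
        (Groth.Agent.S0890.result n _ (isPseudoCoherentD_mono hmn _ h)).1
          (fun j hj => DerivedCategory.isZero_of_isLE _ n j hj)
      have h2 : CohB1.IsFT ((pushforward i).obj (DCoh.HD E n)) :=
        isFiniteType_of_iso ((ExactDC.homologyIso (pushforward i) n).app E) h1
      exact (iff_of_locGen i k ih hO E n m (by push_cast at hn; omega)
        (locGen_of_isFT_pushforward i _ h2)).mpr h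

/-- bounded above case -/
theorem pc_iff_of_isLE (hO : HO i) (E : DCoh.D Z) (n m : ℤ) [E.IsLE n] :
    DCoh.IsPseudoCoherentD m E ↔ DCoh.IsPseudoCoherentD m ((cD i).obj E) :=
  klat (n - m + 1).toNat i hO E n m inferInstance (by omega)

lemma isLE_of_isLE_cD (E : DCoh.D Z) (b : ℤ) (h : ((cD i).obj E).IsLE b) : E.IsLE b := by
  rw [DerivedCategory.isLE_iff]
  intro j hj
  have h1 : IsZero ((pushforward i).obj (DCoh.HD E j)) :=
    (DerivedCategory.isZero_of_isLE _ b j hj).of_iso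
      ((ExactDC.homologyIso (pushforward i) j).app E).symm
  rw [IsZero.iff_id_eq_zero] at h1 ⊢
  apply (pushforward i).map_injective
  rw [CategoryTheory.Functor.map_id, CategoryTheory.Functor.map_zero]
  exact h1

/-- **Pseudo-coherence along a closed immersion with pseudo-coherent structure sheaf.** -/
theorem pc_iff (hO : HO i) (E : DCoh.D Z) (m : ℤ) :
    DCoh.IsPseudoCoherentD m E ↔ DCoh.IsPseudoCoherentD m ((cD i).obj E) := by
  constructor
  · intro hE
    apply pc_cD_of_local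
    intro z
    obtain ⟨V, hzV, hV⟩ := (isPseudoCoherentD_iff m E).mp hE z
    obtain ⟨b, hb⟩ := exists_isLE_of_pcObj hV
    obtain ⟨W, rfl⟩ := exists_preimage_eq i V
    exact ⟨W, hzV, (pc_iff_of_isLE (i ∣_ W) (hO.restrict i W) _ b m).mp
      (Groth.Agent.S0914.isPseudoCoherentD_restrict _ m E hE)⟩
  · intro hE
    apply pc_of_local i
    intro z
    obtain ⟨W, hzW, hW⟩ := (isPseudoCoherentD_iff m _).mp hE (i z)
    obtain ⟨b, hb⟩ := exists_isLE_of_pcObj hW
    have hb0 : (DerivedCategory.TStructure.t).IsLE ((cD i ⋙ rD W.ι).obj E) b := hb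
    have hb' : ((cD (i ∣_ W)).obj ((rD (i ⁻¹ᵁ W).ι).obj E)).IsLE b :=
      (DerivedCategory.TStructure.t).isLE_of_iso ((cDRestrictIso i W).app E) b
    have hb'' := isLE_of_isLE_cD (i ∣_ W) _ b hb'
    refine ⟨W, hzW, (pc_iff_of_isLE (i ∣_ W) (hO.restrict i W) _ b m).mpr ?_⟩
    exact isPseudoCoherentD_of_iso ((cDRestrictIso i W).app E) m
      (Groth.Agent.S0914.isPseudoCoherentD_restrict W.ι m _ hE)

end Groth.Agent.Lib.Helper30.ClosedPC
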