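import Mathlib
import Groth.Prelude.Def_DCoh2
import Groth.Prelude.Def_DCoh3
import Groth.Prelude.Def_DerSch2
import Groth.Agent.Lib.Helper30.ClosedPC.Main
import Groth.Agent.Lib.Helper30.TildePC
import Groth.Agent.Lib.Helper30.AffinePush.TildePush
import Groth.Agent.Lib.Helper6.PCMap

/-!
# Charts: closed immersions of an affine open into the spectrum of a ring (helper30)

* `jOf U χ : U ⟶ Spec Q` for a ring map `χ : Q ⟶ Γ(X, U)`.
* `hO_spec`: `Spec` of a ring map making the target a pseudo-coherent module satisfies `HO`.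
* `pc_jOf_comp_iff`: `E|_U` pushed to `Spec Q` is `m`-pseudo-coherent iff pushed further along
  `Spec Q ⟶ Spec Q'` for a surjection `Q' ⟶ Q` making `Q` a pseudo-coherent `Q'`-module.
* `chartPC_iff`: the frozen `DerSch.ChartPC` in terms of the derived category.
-/

set_option autoImplicit false
universe u
open CategoryTheory CategoryTheory.Limits AlgebraicGeometry TopologicalSpace Opposite
attribute [local instance] HasDerivedCategory.standard

namespace Groth.Agent.Lib.Helper30.ClosedPC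

open Scheme.Modules Groth.Agent.Lib.Helper30.PerfRestrict Groth.Agent.Lib.Helper28.ClosedPush
open Groth.Agent.Lib.Helper30.PCTriangle Groth.Agent.Lib.Helper6 Groth.Agent.Lib.Helper6.RestrPC

variable {X : Scheme.{u}}

local instance tildeExact' (R : CommRingCat.{u}) : PreservesFiniteLimits (tilde.functor R) :=
  Groth.Agent.Lib.Helper49.preservesFiniteLimits_tilde R

/-- the morphism `U ⟶ Spec Q` defined by a ring map `Q ⟶ Γ(X, U)` -/
noncomputable abbrev jOf (U : X.Opens) {Q : CommRingCat.{u}} (χ : Q ⟶ Γ(X, U)) :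
    (U : Scheme.{u}) ⟶ Spec Q := U.toSpecΓ ≫ Spec.map χ

lemma isClosedImmersion_jOf {U : X.Opens} (hU : IsAffineOpen U) {Q : CommRingCat.{u}}
    (χ : Q ⟶ Γ(X, U)) (hχ : Function.Surjective χ.hom) : IsClosedImmersion (jOf U χ) := by
  have h1 : IsIso U.toSpecΓ := by rw [← hU.isoSpec_hom]; infer_instance
  have h2 : IsClosedImmersion (Spec.map χ) := IsClosedImmersion.spec_of_surjective χ hχ
  infer_instance

lemma jOf_comp (U : X.Opens) {Q' Q : CommRingCat.{u}} (σ : Q' ⟶ Q) (χ : Q ⟶ Γ(X, U)) :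
    jOf U χ ≫ Spec.map σ = jOf U (σ ≫ χ) := by
  simp only [jOf, Category.assoc, Spec.map_comp]

/-- `Spec` of a ring map making the target a pseudo-coherent module has pseudo-coherent direct
image of the structure sheaf -/
lemma hO_spec {Q' Q : CommRingCat.{u}} (σ : Q' ⟶ Q) [IsClosedImmersion (Spec.map σ)]
    (h : PCMap σ.hom) : HO (Spec.map σ) := by
  intro m
  have h1 := Groth.Agent.Lib.Helper30.TildePC.isPseudoCoherentD_tildeD Q' _ m (h m)
  refine isPseudoCoherentD_of_iso ?_ m h1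
  exact ((tilde.functor Q').mapDerivedCategorySingleFunctor 0).app _ ≪≫
    (DerivedCategory.singleFunctor _ 0).mapIso
      ((Groth.Agent.Lib.Helper30.AffinePush.tildePushIso σ).app (ModuleCat.of Q Q)).symm

/-- direct image along a composition of closed immersions -/
lemma nonempty_cD_comp_iso {Z Y W : Scheme.{u}} (a : Z ⟶ Y) (b : Y ⟶ W) (c : Z ⟶ W)
    (h : a ≫ b = c) [IsClosedImmersion a] [IsClosedImmersion b] [IsClosedImmersion c]
    (K : DCoh.D Z) : Nonempty ((cD c).obj K ≅ (cD b).obj ((cD a).obj K)) := by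
  subst h
  let G := DerivedCategory.Q.objPreimage K
  let e : DerivedCategory.Q.obj G ≅ K := DerivedCategory.Q.objObjPreimageIso K
  let t : (cC (a ≫ b)).obj G ≅ (cC b).obj ((cC a).obj G) :=
    ((Functor.mapHomologicalComplexCompIso (Scheme.Modules.pushforwardComp a b)
      (ComplexShape.up ℤ)).app G).symm
  exact ⟨(cD (a ≫ b)).mapIso e.symm ≪≫ (cDQ (a ≫ b)).app G ≪≫ DerivedCategory.Q.mapIso t ≪≫
    ((cDQ b).app _).symm ≪≫ (cD b).mapIso (((cDQ a).app G).symm ≪≫ (cD a).mapIso e)⟩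

/-- moving a chart along a surjection of rings with pseudo-coherent target -/
theorem pc_jOf_comp_iff {U : X.Opens} (hU : IsAffineOpen U) {Q' Q : CommRingCat.{u}}
    (σ : Q' ⟶ Q) (hσ : Function.Surjective σ.hom) (hpc : PCMap σ.hom)
    (χ : Q ⟶ Γ(X, U)) (hχ : Function.Surjective χ.hom) (K : DCoh.D (U : Scheme.{u})) (m : ℤ) :
    haveI := isClosedImmersion_jOf hU χ hχ
    haveI := isClosedImmersion_jOf hU (σ ≫ χ)
      (by rw [CommRingCat.hom_comp]; exact hχ.comp hσ)
    DCoh.IsPseudoCoherentD m ((cD (jOf U χ)).obj K) ↔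
      DCoh.IsPseudoCoherentD m ((cD (jOf U (σ ≫ χ))).obj K) := by
  have h1 := isClosedImmersion_jOf hU χ hχ
  have h2 := isClosedImmersion_jOf hU (σ ≫ χ) (by rw [CommRingCat.hom_comp]; exact hχ.comp hσ)
  have h3 : IsClosedImmersion (Spec.map σ) := IsClosedImmersion.spec_of_surjective σ hσ
  obtain ⟨t⟩ := nonempty_cD_comp_iso (jOf U χ) (Spec.map σ) (jOf U (σ ≫ χ)) (jOf_comp U σ χ) K
  rw [pc_iff (Spec.map σ) (hO_spec σ hpc) ((cD (jOf U χ)).obj K) m]
  exact ⟨isPseudoCoherentD_of_iso t.symm m, isPseudoCoherentD_of_iso t m⟩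

/-- the frozen chart test in terms of the derived category -/
theorem chartPC_iff {S : Scheme.{u}} (E : DCoh.D X) (m : ℤ) (U : X.Opens) (V : S.Opens) {n : ℕ}
    (φ : MvPolynomial (Fin n) Γ(S, V) →+* Γ(X, U)) [IsClosedImmersion (DerSch.chartImm U φ)] :
    DerSch.ChartPC m E U V φ ↔
      DCoh.IsPseudoCoherentD m ((cD (DerSch.chartImm U φ)).obj ((rD U.ι).obj E)) := by
  have key : ∀ (G : CochainComplex X.Modules ℤ) (e : DCoh.toD X G ≅ E),
      DCoh.toD _ ((DerSch.pushCx (DerSch.chartImm U φ)).obj ((DCoh.restrictCx U).obj G)) ≅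
        (cD (DerSch.chartImm U φ)).obj ((rD U.ι).obj E) := fun G e =>
    ((cDQ (DerSch.chartImm U φ)).app _).symm ≪≫
      (cD (DerSch.chartImm U φ)).mapIso (((rDQ U.ι).app G).symm ≪≫ (rD U.ι).mapIso e)
  constructor
  · intro h
    exact isPseudoCoherentD_of_iso (key _ (DerivedCategory.Q.objObjPreimageIso E)) m
      (h _ ⟨DerivedCategory.Q.objObjPreimageIso E⟩)
  · rintro h G ⟨e⟩
    exact isPseudoCoherentD_of_iso (key G e).symm m h

end Groth.Agent.Lib.Helper30.ClosedPC
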