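import Mathlib
import Groth.Agent.Lib.Helper30.ClosedPC.Chart

/-!
# Independence of the chart (helper30)
-/

set_option autoImplicit false
universe u
open CategoryTheory CategoryTheory.Limits AlgebraicGeometry TopologicalSpace Opposite
attribute [local instance] HasDerivedCategory.standard

namespace Groth.Agent.Lib.Helper30.ClosedPC

open Scheme.Modules Groth.Agent.Lib.Helper30.PerfRestrict
open Groth.Agent.Lib.Helper30.PCTriangle Groth.Agent.Lib.Helper6 Groth.Agent.Lib.Helper6.RestrPC

variable {X : Scheme.{u}}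

lemma pc_jOf_congr {U : X.Opens} {Q : CommRingCat.{u}} {χ χ' : Q ⟶ Γ(X, U)} (h : χ = χ')
    [IsClosedImmersion (jOf U χ)] [IsClosedImmersion (jOf U χ')] (K : DCoh.D (U : Scheme.{u}))
    (m : ℤ) :
    DCoh.IsPseudoCoherentD m ((cD (jOf U χ)).obj K) ↔
      DCoh.IsPseudoCoherentD m ((cD (jOf U χ')).obj K) := by
  subst h
  exact Iff.rfl

lemma aeval_surjective {P : Type u} [CommRing P] {k : ℕ} (f : Fin k → P) :
    Function.Surjective ((MvPolynomial.aeval f : MvPolynomial (Fin k) P →ₐ[P] P) :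
      MvPolynomial (Fin k) P →+* P) := fun p =>
  ⟨MvPolynomial.C p, by simp⟩

/-- independence of the presentation, one direction -/
theorem pc_jOf_indep {U : X.Opens} (hU : IsAffineOpen U) {R : Type u} [CommRing R]
    (K : DCoh.D (U : Scheme.{u})) (m : ℤ) {n k : ℕ}
    (φ : MvPolynomial (Fin n) R →+* Γ(X, U)) (ψ : MvPolynomial (Fin k) R →+* Γ(X, U))
    (hφ : Function.Surjective φ) (hψ : Function.Surjective ψ)
    (hC : φ.comp MvPolynomial.C = ψ.comp MvPolynomial.C) :
    haveI := isClosedImmersion_jOf hU (CommRingCat.ofHom φ) hφ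
    haveI := isClosedImmersion_jOf hU (CommRingCat.ofHom ψ) hψ
    DCoh.IsPseudoCoherentD m ((cD (jOf U (CommRingCat.ofHom φ))).obj K) →
      DCoh.IsPseudoCoherentD m ((cD (jOf U (CommRingCat.ofHom ψ))).obj K) := by
  intro h0
  choose f hf using fun j : Fin k => hφ (ψ (MvPolynomial.X j))
  choose g hg using fun i : Fin n => hψ (φ (MvPolynomial.X i))
  let π₁ : MvPolynomial (Fin k) (MvPolynomial (Fin n) R) →+* MvPolynomial (Fin n) R :=
    ((MvPolynomial.aeval f :
      MvPolynomial (Fin k) (MvPolynomial (Fin n) R) →ₐ[MvPolynomial (Fin n) R] _) : _ →+* _)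
  let π₂ : MvPolynomial (Fin n) (MvPolynomial (Fin k) R) →+* MvPolynomial (Fin k) R :=
    ((MvPolynomial.aeval g :
      MvPolynomial (Fin n) (MvPolynomial (Fin k) R) →ₐ[MvPolynomial (Fin k) R] _) : _ →+* _)
  let c : MvPolynomial (Fin k) (MvPolynomial (Fin n) R) →+*
      MvPolynomial (Fin n) (MvPolynomial (Fin k) R) :=
    (MvPolynomial.commAlgEquiv R (Fin k) (Fin n) : _ →+* _)
  have hπ₁ : PCMap π₁ := pcMap_aeval _ k f
  have hπ₂ : PCMap π₂ := pcMap_aeval _ n g
  have hcb : Function.Bijective c := (MvPolynomial.commAlgEquiv R (Fin k) (Fin n)).bijective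
  have hc : PCMap c := pcMap_of_bijective _ hcb
  have hC' : ∀ r : R, φ (MvPolynomial.C r) = ψ (MvPolynomial.C r) := fun r =>
    RingHom.congr_fun hC r
  have heq : φ.comp π₁ = (ψ.comp π₂).comp c := by
    apply MvPolynomial.ringHom_ext
    · intro p
      have h0 : (φ.comp π₁).comp MvPolynomial.C = ((ψ.comp π₂).comp c).comp MvPolynomial.C := by
        apply MvPolynomial.ringHom_ext
        · intro r
          show φ (MvPolynomial.aeval f (MvPolynomial.C (MvPolynomial.C r))) =
            ψ (MvPolynomial.aeval g (MvPolynomial.commAlgEquiv R (Fin k) (Fin n)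
              (MvPolynomial.C (MvPolynomial.C r))))
          rw [MvPolynomial.aeval_C, MvPolynomial.commAlgEquiv_C, MvPolynomial.map_C,
            MvPolynomial.aeval_C]
          exact hC' r
        · intro i
          show φ (MvPolynomial.aeval f (MvPolynomial.C (MvPolynomial.X i))) =
            ψ (MvPolynomial.aeval g (MvPolynomial.commAlgEquiv R (Fin k) (Fin n)
              (MvPolynomial.C (MvPolynomial.X i))))
          rw [MvPolynomial.aeval_C, MvPolynomial.commAlgEquiv_C_X, MvPolynomial.aeval_X, hg]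
          rfl
      exact RingHom.congr_fun h0 p
    · intro j
      show φ (MvPolynomial.aeval f (MvPolynomial.X j)) =
        ψ (MvPolynomial.aeval g (MvPolynomial.commAlgEquiv R (Fin k) (Fin n) (MvPolynomial.X j)))
      rw [MvPolynomial.aeval_X, MvPolynomial.commAlgEquiv_X, MvPolynomial.aeval_C, hf]
      rfl
  have hs1 : Function.Surjective π₁ := aeval_surjective f
  have hs2 : Function.Surjective π₂ := aeval_surjective g
  have hχ2 : Function.Surjective (CommRingCat.ofHom π₂ ≫ CommRingCat.ofHom ψ).hom := by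
    rw [CommRingCat.hom_comp]; exact hψ.comp hs2
  have := isClosedImmersion_jOf hU (CommRingCat.ofHom φ) hφ
  have := isClosedImmersion_jOf hU (CommRingCat.ofHom ψ) hψ
  have := isClosedImmersion_jOf hU (CommRingCat.ofHom π₁ ≫ CommRingCat.ofHom φ)
    (by rw [CommRingCat.hom_comp]; exact hφ.comp hs1)
  have := isClosedImmersion_jOf hU _ hχ2
  have := isClosedImmersion_jOf hU
    (CommRingCat.ofHom c ≫ CommRingCat.ofHom π₂ ≫ CommRingCat.ofHom ψ)
    (by rw [CommRingCat.hom_comp]; exact hχ2.comp hcb.surjective)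
  have heq' : CommRingCat.ofHom π₁ ≫ CommRingCat.ofHom φ =
      CommRingCat.ofHom c ≫ CommRingCat.ofHom π₂ ≫ CommRingCat.ofHom ψ := by
    apply CommRingCat.hom_ext
    exact heq
  have s1 := (pc_jOf_comp_iff hU (CommRingCat.ofHom π₁) hs1 hπ₁ (CommRingCat.ofHom φ) hφ K m).mp h0
  have s2 := (pc_jOf_congr heq' K m).mp s1
  have s3 := (pc_jOf_comp_iff hU (CommRingCat.ofHom c) hcb.surjective hc
    (CommRingCat.ofHom π₂ ≫ CommRingCat.ofHom ψ) hχ2 K m).mpr s2
  exact (pc_jOf_comp_iff hU (CommRingCat.ofHom π₂) hs2 hπ₂ (CommRingCat.ofHom ψ) hψ K m).mpr s3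

end Groth.Agent.Lib.Helper30.ClosedPC
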