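import Mathlib
import Groth.Agent.Lib.Helper30.ClosedPC.ChartIndep
import Groth.Agent.Lib.Helper30.ClosedPC.AwayPC

/-!
# Charts out of surjections from a localization of a polynomial ring (helper30)
-/

set_option autoImplicit false
universe u
open CategoryTheory CategoryTheory.Limits AlgebraicGeometry TopologicalSpace Opposite
attribute [local instance] HasDerivedCategory.standard

namespace Groth.Agent.Lib.Helper30.ClosedPC

open Scheme.Modules Groth.Agent.Lib.Helper30.PerfRestrict
open Groth.Agent.Lib.Helper30.PCTriangle Groth.Agent.Lib.Helper6 Groth.Agent.Lib.Helper6.RestrPC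

variable {X : Scheme.{u}} {U : X.Opens} {R : Type u} [CommRing R] {n : ℕ}
  (a : MvPolynomial (Fin n) R) {A' : Type u} [CommRing A'] [Algebra (MvPolynomial (Fin n) R) A']
  [IsLocalization.Away a A'] (χ' : A' →+* Γ(X, U))

/-- `R[x_0..x_n] ≃ R[x_1..x_n][X]` as a ring homomorphism -/
noncomputable def finSuccHom (R : Type u) [CommRing R] (n : ℕ) :
    MvPolynomial (Fin (n + 1)) R →+* Polynomial (MvPolynomial (Fin n) R) :=
  (MvPolynomial.finSuccEquiv R n).toRingEquiv.toRingHom

lemma finSuccHom_bijective (R : Type u) [CommRing R] (n : ℕ) :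
    Function.Bijective (finSuccHom R n) := (MvPolynomial.finSuccEquiv R n).bijective

lemma finSuccHom_C (R : Type u) [CommRing R] (n : ℕ) (s : R) :
    finSuccHom R n (MvPolynomial.C s) = Polynomial.C (MvPolynomial.C s) := by
  show MvPolynomial.finSuccEquiv R n (MvPolynomial.C s) = _
  rw [MvPolynomial.finSuccEquiv_apply, MvPolynomial.eval₂Hom_C]
  rfl

/-- the chart in `n + 1` variables obtained from a surjection out of `R[x_1..x_n][1/a]` -/
noncomputable def extChart : MvPolynomial (Fin (n + 1)) R →+* Γ(X, U) :=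
  χ'.comp ((awayLift (MvPolynomial (Fin n) R) a A').comp (finSuccHom R n))

lemma extChart_surjective (hχ' : Function.Surjective χ') :
    Function.Surjective (extChart a χ') := by
  have h1 := awayLift_surjective (MvPolynomial (Fin n) R) a A'
  exact hχ'.comp (h1.comp (finSuccHom_bijective R n).surjective)

lemma extChart_C (s : R) :
    extChart a χ' (MvPolynomial.C s) =
      χ' (algebraMap (MvPolynomial (Fin n) R) A' (MvPolynomial.C s)) := by
  show χ' (awayLift (MvPolynomial (Fin n) R) a A' (finSuccHom R n (MvPolynomial.C s))) = _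
  rw [finSuccHom_C, awayLift_C]

theorem pc_extChart_iff (hU : IsAffineOpen U) (hχ' : Function.Surjective χ')
    (K : DCoh.D (U : Scheme.{u})) (m : ℤ) :
    haveI := isClosedImmersion_jOf hU (CommRingCat.ofHom χ') hχ'
    haveI := isClosedImmersion_jOf hU (CommRingCat.ofHom (extChart a χ'))
      (extChart_surjective a χ' hχ')
    DCoh.IsPseudoCoherentD m ((cD (jOf U (CommRingCat.ofHom χ'))).obj K) ↔
      DCoh.IsPseudoCoherentD m ((cD (jOf U (CommRingCat.ofHom (extChart a χ')))).obj K) := by
  have h1 := awayLift_surjective (MvPolynomial (Fin n) R) a A'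
  have h2 := finSuccHom_bijective R n
  let σ₁ : CommRingCat.of (Polynomial (MvPolynomial (Fin n) R)) ⟶ CommRingCat.of A' :=
    CommRingCat.ofHom (awayLift (MvPolynomial (Fin n) R) a A')
  let σ₂ : CommRingCat.of (MvPolynomial (Fin (n + 1)) R) ⟶
      CommRingCat.of (Polynomial (MvPolynomial (Fin n) R)) :=
    CommRingCat.ofHom (finSuccHom R n)
  have hs1 : Function.Surjective (σ₁ ≫ CommRingCat.ofHom χ').hom := by
    rw [CommRingCat.hom_comp]; exact hχ'.comp h1
  have i0 := isClosedImmersion_jOf hU (CommRingCat.ofHom χ') hχ'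
  have i1 := isClosedImmersion_jOf hU (σ₁ ≫ CommRingCat.ofHom χ') hs1
  have i2 := isClosedImmersion_jOf hU (σ₂ ≫ σ₁ ≫ CommRingCat.ofHom χ')
    (by rw [CommRingCat.hom_comp]; exact hs1.comp h2.surjective)
  have i3 := isClosedImmersion_jOf hU (CommRingCat.ofHom (extChart a χ'))
    (extChart_surjective a χ' hχ')
  have s1 := pc_jOf_comp_iff hU σ₁ h1 (pcMap_awayLift (MvPolynomial (Fin n) R) a A')
    (CommRingCat.ofHom χ') hχ' K m
  have s2 := pc_jOf_comp_iff hU σ₂ h2.surjective (pcMap_of_bijective _ h2)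
    (σ₁ ≫ CommRingCat.ofHom χ') hs1 K m
  have heq : σ₂ ≫ σ₁ ≫ CommRingCat.ofHom χ' = CommRingCat.ofHom (extChart a χ') := rfl
  exact s1.trans (s2.trans (pc_jOf_congr heq K m))

end Groth.Agent.Lib.Helper30.ClosedPC
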