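import Mathlib
import Groth.Agent.Lib.Helper30.ClosedPC.Chart
import Groth.Agent.Lib.Helper30.ClosedPC.BaseChange

/-!
# Localizing a chart at an element (helper30)

For an affine open `U`, a surjection `χ : Q ⟶ Γ(X, U)` and `G : Q`, the basic open `D(χ G) ⊆ U`
has the chart `χ_G : Q_G ⟶ Γ(X, D(χ G))`, and the corresponding square of closed/open immersions
is cartesian.
-/

set_option autoImplicit false
universe u
open CategoryTheory CategoryTheory.Limits AlgebraicGeometry TopologicalSpace Opposite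
attribute [local instance] HasDerivedCategory.standard

namespace Groth.Agent.Lib.Helper30.ClosedPC

open Scheme.Modules Groth.Agent.Lib.Helper30.PerfRestrict Groth.Agent.Lib.Helper30.PCTriangle
open Groth.Agent.Lib.Helper30.PCNoeth Groth.Agent.Lib.Helper6

/-- pseudo-coherence of `j_* K` may be checked on open immersions covering the image of `j` -/
theorem pc_cD_of_cover {Z Y : Scheme.{u}} (j : Z ⟶ Y) [IsClosedImmersion j] (K : DCoh.D Z) (m : ℤ)
    (h : ∀ z : Z, ∃ (Y' : Scheme.{u}) (o : Y' ⟶ Y) (_ : IsOpenImmersion o),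
      j z ∈ Set.range o ∧ DCoh.IsPseudoCoherentD m ((rD o).obj ((cD j).obj K))) :
    DCoh.IsPseudoCoherentD m ((cD j).obj K) := by
  apply Groth.Agent.Lib.Helper30.RelTorRestrict.isPseudoCoherentD_of_cover
  intro x
  by_cases hx : x ∈ Set.range j
  · obtain ⟨z, rfl⟩ := hx
    obtain ⟨Y', o, ho, hz, hpc⟩ := h z
    exact ⟨Y', o, ho, hz, hpc⟩
  · let W : Y.Opens := ⟨(Set.range j)ᶜ, j.isClosedEmbedding.isClosed_range.isOpen_compl⟩
    have hempty : IsEmpty ((j ⁻¹ᵁ W : Z.Opens) : Scheme.{u}) := by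
      refine ⟨fun ⟨z, hz⟩ => hz ⟨z, rfl⟩⟩
    refine ⟨W, W.ι, inferInstance, ⟨⟨x, hx⟩, rfl⟩,
      isPseudoCoherentD_of_iso ((cDRestrictIso j W).app K).symm m ?_⟩
    have h1 : ((rD (j ⁻¹ᵁ W).ι).obj K).IsLE (m - 1) := by
      rw [DerivedCategory.isLE_iff]
      intro i _
      exact isZero_of_isEmpty _ _
    have h2 : ((rD (j ⁻¹ᵁ W).ι ⋙ cD (j ∣_ W)).obj K).IsLE (m - 1) :=
      ExactDC.isLE_obj (F := pushforward (j ∣_ W)) ((rD (j ⁻¹ᵁ W).ι).obj K) (m - 1)
    exact isPseudoCoherentD_of_isLE _ (m - 1) m (by omega)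

section

variable {X : Scheme.{u}} {U : X.Opens} (hU : IsAffineOpen U) {Q : CommRingCat.{u}}
  (χ : Q ⟶ Γ(X, U)) (G : Q)

/-- the restriction map `Γ(U) ⟶ Γ(D(g))` -/
abbrev resB (g : Γ(X, U)) : Γ(X, U) ⟶ Γ(X, X.basicOpen g) :=
  X.presheaf.map (homOfLE (X.basicOpen_le g)).op

/-- the localized ring -/
abbrev QG : CommRingCat.{u} := CommRingCat.of (Localization.Away G)

/-- the localization map -/
abbrev ell : Q ⟶ QG G := CommRingCat.ofHom (algebraMap Q (Localization.Away G))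

lemma isUnit_resB (g : Γ(X, U)) : IsUnit ((resB g).hom g) :=
  RingedSpace.isUnit_res_basicOpen _ g

/-- the induced chart of the basic open -/
noncomputable def chiLoc : QG G ⟶ Γ(X, X.basicOpen (χ.hom G)) :=
  CommRingCat.ofHom (IsLocalization.Away.lift G (g := (χ ≫ resB (χ.hom G)).hom)
    (isUnit_resB (χ.hom G)))

lemma ell_chiLoc : ell G ≫ chiLoc χ G = χ ≫ resB (χ.hom G) := by
  apply CommRingCat.hom_ext
  exact IsLocalization.Away.lift_comp G (g := (χ ≫ resB (χ.hom G)).hom) (isUnit_resB (χ.hom G))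

include hU in
lemma chiLoc_surjective (hχ : Function.Surjective χ.hom) :
    Function.Surjective (chiLoc χ G).hom := by
  intro b'
  have := hU.isLocalization_basicOpen (χ.hom G)
  obtain ⟨n, b, hb⟩ := IsLocalization.Away.surj (χ.hom G) b'
  obtain ⟨q, rfl⟩ := hχ b
  have hcomp : ∀ q' : Q, (chiLoc χ G).hom (algebraMap Q (Localization.Away G) q') =
      (resB (χ.hom G)).hom (χ.hom q') := fun q' =>
    congrArg (fun φ : Q ⟶ Γ(X, X.basicOpen (χ.hom G)) => φ.hom q') (ell_chiLoc χ G)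
  have hu : IsUnit ((resB (χ.hom G)).hom (χ.hom G) ^ n) := (isUnit_resB (χ.hom G)).pow n
  refine ⟨IsLocalization.mk' (Localization.Away G) q
    (⟨G ^ n, n, rfl⟩ : Submonoid.powers G), ?_⟩
  apply hu.mul_right_cancel
  have h2 : (chiLoc χ G).hom (IsLocalization.mk' (Localization.Away G) q
      (⟨G ^ n, n, rfl⟩ : Submonoid.powers G)) * (resB (χ.hom G)).hom (χ.hom G) ^ n =
      (resB (χ.hom G)).hom (χ.hom q) := by
    rw [← hcomp G, ← map_pow, ← map_pow, ← map_mul, ← hcomp q]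
    congr 1
    exact IsLocalization.mk'_spec (Localization.Away G) q (⟨G ^ n, n, rfl⟩ : Submonoid.powers G)
  rw [h2]
  exact hb.symm

lemma jOf_square :
    X.homOfLE (X.basicOpen_le (χ.hom G)) ≫ jOf U χ =
      jOf (X.basicOpen (χ.hom G)) (chiLoc χ G) ≫ Spec.map (ell G) := by
  simp only [jOf, Category.assoc, ← Spec.map_comp, ell_chiLoc]
  rw [Spec.map_comp, ← Category.assoc, ← Category.assoc]
  congr 1
  exact (Scheme.Opens.toSpecΓ_SpecMap_presheaf_map _ _ (X.basicOpen_le (χ.hom G))).symm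

lemma jOf_cart :
    (jOf U χ) ⁻¹ᵁ (Spec.map (ell G)).opensRange =
      (X.homOfLE (X.basicOpen_le (χ.hom G))).opensRange := by
  rw [Scheme.Hom.opensRange_localizationAway, Scheme.opensRange_homOfLE,
    ← Scheme.Opens.toSpecΓ_preimage_basicOpen, Scheme.Hom.comp_preimage]
  congr 1

end

section

variable {X : Scheme.{u}} {U : X.Opens} (hU : IsAffineOpen U) {Q : CommRingCat.{u}}
  (χ : Q ⟶ Γ(X, U)) (hχ : Function.Surjective χ.hom)

include hU hχ in
lemma isClosedImmersion_jOf_chiLoc (G : Q) :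
    IsClosedImmersion (jOf (X.basicOpen (χ.hom G)) (chiLoc χ G)) :=
  isClosedImmersion_jOf (hU.basicOpen (χ.hom G)) (chiLoc χ G) (chiLoc_surjective hU χ G hχ)

/-- the base change isomorphism for the localized chart -/
theorem nonempty_localize_iso (G : Q) (E : DCoh.D X) :
    haveI := isClosedImmersion_jOf hU χ hχ
    haveI := isClosedImmersion_jOf_chiLoc hU χ hχ G
    Nonempty ((rD (Spec.map (ell G))).obj ((cD (jOf U χ)).obj ((rD U.ι).obj E)) ≅
      (cD (jOf (X.basicOpen (χ.hom G)) (chiLoc χ G))).obj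
        ((rD (X.basicOpen (χ.hom G)).ι).obj E)) := by
  have h1 := isClosedImmersion_jOf hU χ hχ
  have h2 := isClosedImmersion_jOf_chiLoc hU χ hχ G
  refine ⟨(cDRestrictIso' (X.homOfLE (X.basicOpen_le (χ.hom G))) (Spec.map (ell G)) (jOf U χ)
    (jOf (X.basicOpen (χ.hom G)) (chiLoc χ G)) (jOf_square χ G) (jOf_cart χ G)).app _ ≪≫
    (cD (jOf (X.basicOpen (χ.hom G)) (chiLoc χ G))).mapIso ?_⟩
  exact (rDFac (X.homOfLE (X.basicOpen_le (χ.hom G))) U.ι (X.basicOpen (χ.hom G)).ι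
    (X.homOfLE_ι _) E).symm

/-- pseudo-coherence along a chart passes to the localized chart -/
theorem pc_localize (G : Q) (E : DCoh.D X) (m : ℤ) :
    haveI := isClosedImmersion_jOf hU χ hχ
    haveI := isClosedImmersion_jOf_chiLoc hU χ hχ G
    DCoh.IsPseudoCoherentD m ((cD (jOf U χ)).obj ((rD U.ι).obj E)) →
      DCoh.IsPseudoCoherentD m ((cD (jOf (X.basicOpen (χ.hom G)) (chiLoc χ G))).obj
        ((rD (X.basicOpen (χ.hom G)).ι).obj E)) := by
  intro h
  obtain ⟨t⟩ := nonempty_localize_iso hU χ hχ G E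
  exact isPseudoCoherentD_of_iso t m
    (Groth.Agent.S0914.isPseudoCoherentD_restrict (Spec.map (ell G)) m _ h)

/-- pseudo-coherence along a chart can be checked on localized charts -/
theorem pc_of_localize_cover (E : DCoh.D X) (m : ℤ)
    (h : ∀ x ∈ U, ∃ G : Q, x ∈ X.basicOpen (χ.hom G) ∧
      haveI := isClosedImmersion_jOf_chiLoc hU χ hχ G
      DCoh.IsPseudoCoherentD m ((cD (jOf (X.basicOpen (χ.hom G)) (chiLoc χ G))).obj
        ((rD (X.basicOpen (χ.hom G)).ι).obj E))) :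
    haveI := isClosedImmersion_jOf hU χ hχ
    DCoh.IsPseudoCoherentD m ((cD (jOf U χ)).obj ((rD U.ι).obj E)) := by
  have h1 := isClosedImmersion_jOf hU χ hχ
  apply pc_cD_of_cover
  intro z
  obtain ⟨G, hzG, hpc⟩ := h z.1 z.2
  have h2 := isClosedImmersion_jOf_chiLoc hU χ hχ G
  obtain ⟨t⟩ := nonempty_localize_iso hU χ hχ G E
  refine ⟨Spec (QG G), Spec.map (ell G), inferInstance, ?_, isPseudoCoherentD_of_iso t.symm m hpc⟩
  have hz : z ∈ (X.homOfLE (X.basicOpen_le (χ.hom G))).opensRange := by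
    rw [Scheme.opensRange_homOfLE]
    exact hzG
  rw [← jOf_cart χ G] at hz
  exact hz

end

end Groth.Agent.Lib.Helper30.ClosedPC
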