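import Mathlib
import Groth.Prelude.Def_DerSch2
import Groth.Agent.Lib.Helper30.ClosedPC.ExtChart
import Groth.Agent.Lib.Helper30.ClosedPC.Localize

/-!
# Relative pseudo-coherence on affine pairs, for arbitrary objects of `D(O_X)` (helper30)

`RelPCAt f E m U V h`: some chart `Γ(V)[x_1..x_n] ↠ Γ(U)` has `m`-pseudo-coherent direct image of
`E|_U`.  Independence of the chart, passage to basic opens of `U`, gluing over basic open covers
of `U`, and change of base `V ↔ D(r)`.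
-/

set_option autoImplicit false
universe u
open CategoryTheory CategoryTheory.Limits AlgebraicGeometry TopologicalSpace Opposite
attribute [local instance] HasDerivedCategory.standard

namespace Groth.Agent.Lib.Helper30.ClosedPC

open Scheme.Modules Groth.Agent.Lib.Helper30.PerfRestrict
open Groth.Agent.Lib.Helper30.PCTriangle Groth.Agent.Lib.Helper6 Groth.Agent.Lib.Helper6.RestrPC

variable {X S : Scheme.{u}} (f : X ⟶ S) (E : DCoh.D X) (m : ℤ)

/-- some chart of `U` over `V` has pseudo-coherent direct image of `E|_U` -/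
def RelPCAt (U : X.Opens) (V : S.Opens) (h : U ≤ f ⁻¹ᵁ V) : Prop :=
  ∃ (n : ℕ) (φ : MvPolynomial (Fin n) Γ(S, V) →+* Γ(X, U)),
    DerSch.IsChart f U V h φ ∧ DerSch.ChartPC m E U V φ

variable {f E m}

lemma relPCAt_congr {U U' : X.Opens} (hUU' : U = U') {V : S.Opens} {h : U ≤ f ⁻¹ᵁ V}
    {h' : U' ≤ f ⁻¹ᵁ V} (hrel : RelPCAt f E m U V h) : RelPCAt f E m U' V h' := by
  subst hUU'
  exact hrel

lemma relPCAt_congr_base {U : X.Opens} {V V' : S.Opens} (hVV' : V = V')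
    {h : U ≤ f ⁻¹ᵁ V} {h' : U ≤ f ⁻¹ᵁ V'} (hrel : RelPCAt f E m U V h) :
    RelPCAt f E m U V' h' := by
  subst hVV'
  exact hrel

/-- the chart test in terms of `jOf` -/
theorem chartPC_iff_jOf {U : X.Opens} (hU : IsAffineOpen U) (V : S.Opens) {n : ℕ}
    (φ : MvPolynomial (Fin n) Γ(S, V) →+* Γ(X, U)) (hφ : Function.Surjective φ) :
    haveI := isClosedImmersion_jOf hU (CommRingCat.ofHom φ) hφ
    DerSch.ChartPC m E U V φ ↔
      DCoh.IsPseudoCoherentD m ((cD (jOf U (CommRingCat.ofHom φ))).obj ((rD U.ι).obj E)) := by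
  have h1 : IsClosedImmersion (DerSch.chartImm U φ) :=
    isClosedImmersion_jOf hU (CommRingCat.ofHom φ) hφ
  exact chartPC_iff E m U V φ

/-- independence of the chart -/
theorem chartPC_indep {U : X.Opens} (hU : IsAffineOpen U) {V : S.Opens} {h : U ≤ f ⁻¹ᵁ V}
    {n k : ℕ} (φ : MvPolynomial (Fin n) Γ(S, V) →+* Γ(X, U))
    (ψ : MvPolynomial (Fin k) Γ(S, V) →+* Γ(X, U)) (hφ : DerSch.IsChart f U V h φ)
    (hψ : DerSch.IsChart f U V h ψ) (hpc : DerSch.ChartPC m E U V φ) :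
    DerSch.ChartPC m E U V ψ := by
  rw [chartPC_iff_jOf hU V _ hφ.1] at hpc
  rw [chartPC_iff_jOf hU V _ hψ.1]
  exact pc_jOf_indep hU _ m φ ψ hφ.1 hψ.1 (hφ.2.trans hψ.2.symm) hpc

theorem RelPCAt.chartPC {U : X.Opens} (hU : IsAffineOpen U) {V : S.Opens} {h : U ≤ f ⁻¹ᵁ V}
    (hrel : RelPCAt f E m U V h) {k : ℕ} (ψ : MvPolynomial (Fin k) Γ(S, V) →+* Γ(X, U))
    (hψ : DerSch.IsChart f U V h ψ) : DerSch.ChartPC m E U V ψ := by
  obtain ⟨n, φ, hφ, hpc⟩ := hrel
  exact chartPC_indep hU φ ψ hφ hψ hpc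

section Localize

variable {U : X.Opens} (hU : IsAffineOpen U) {V : S.Opens} {h : U ≤ f ⁻¹ᵁ V} {n : ℕ}
  (φ : MvPolynomial (Fin n) Γ(S, V) →+* Γ(X, U)) (hφ : DerSch.IsChart f U V h φ)
  (G : MvPolynomial (Fin n) Γ(S, V))

/-- the chart of `D(φ G)` in `n + 1` variables -/
noncomputable def locChart : MvPolynomial (Fin (n + 1)) Γ(S, V) →+* Γ(X, X.basicOpen (φ G)) :=
  extChart (A' := Localization.Away G) G (chiLoc (CommRingCat.ofHom φ) G).hom

include hU hφ in
lemma isChart_locChart :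
    DerSch.IsChart f (X.basicOpen (φ G)) V ((X.basicOpen_le (φ G)).trans h) (locChart φ G) := by
  refine ⟨extChart_surjective G _ (chiLoc_surjective hU (CommRingCat.ofHom φ) G hφ.1), ?_⟩
  ext s
  show locChart φ G (MvPolynomial.C s) = _
  rw [locChart, extChart_C]
  have h1 := congrArg (fun ψ : CommRingCat.of (MvPolynomial (Fin n) Γ(S, V)) ⟶
      Γ(X, X.basicOpen (φ G)) => ψ.hom (MvPolynomial.C s)) (ell_chiLoc (CommRingCat.ofHom φ) G)
  refine h1.trans ?_
  show (resB (φ G)).hom (φ (MvPolynomial.C s)) = _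
  have h2 : φ (MvPolynomial.C s) = (f.appLE V U h).hom s := RingHom.congr_fun hφ.2 s
  rw [h2]
  have h3 := f.appLE_map h (homOfLE (X.basicOpen_le (φ G))).op
  exact congrArg (fun ψ : Γ(S, V) ⟶ Γ(X, X.basicOpen (φ G)) => ψ.hom s) h3

include hU hφ in
theorem chartPC_locChart_iff :
    haveI := isClosedImmersion_jOf_chiLoc hU (CommRingCat.ofHom φ) hφ.1 G
    DerSch.ChartPC m E (X.basicOpen (φ G)) V (locChart φ G) ↔
      DCoh.IsPseudoCoherentD m
        ((cD (jOf (X.basicOpen (φ G)) (chiLoc (CommRingCat.ofHom φ) G))).obj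
          ((rD (X.basicOpen (φ G)).ι).obj E)) := by
  have hs := chiLoc_surjective hU (CommRingCat.ofHom φ) G hφ.1
  rw [chartPC_iff_jOf (hU.basicOpen (φ G)) V _ (isChart_locChart hU φ hφ G).1]
  exact (pc_extChart_iff (A' := Localization.Away G) G (chiLoc (CommRingCat.ofHom φ) G).hom
    (hU.basicOpen (φ G)) hs _ m).symm

end Localize

/-- relative pseudo-coherence passes to basic opens of `U` -/
theorem relPCAt_basicOpen {U : X.Opens} (hU : IsAffineOpen U) {V : S.Opens} {h : U ≤ f ⁻¹ᵁ V}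
    (hrel : RelPCAt f E m U V h) (g : Γ(X, U)) :
    RelPCAt f E m (X.basicOpen g) V ((X.basicOpen_le g).trans h) := by
  obtain ⟨n, φ, hφ, hpc⟩ := hrel
  obtain ⟨G, rfl⟩ := hφ.1 g
  refine ⟨n + 1, locChart φ G, isChart_locChart hU φ hφ G, ?_⟩
  rw [chartPC_locChart_iff hU φ hφ G]
  rw [chartPC_iff_jOf hU V _ hφ.1] at hpc
  exact pc_localize hU (CommRingCat.ofHom φ) hφ.1 G E m hpc

/-- relative pseudo-coherence glues over coverings of `U` by basic opens -/
theorem relPCAt_of_basicOpen_cover {U : X.Opens} (hU : IsAffineOpen U) {V : S.Opens}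
    {h : U ≤ f ⁻¹ᵁ V}
    (hch : ∃ (n : ℕ) (φ : MvPolynomial (Fin n) Γ(S, V) →+* Γ(X, U)), DerSch.IsChart f U V h φ)
    (hcov : ∀ x ∈ U, ∃ g : Γ(X, U), x ∈ X.basicOpen g ∧
      RelPCAt f E m (X.basicOpen g) V ((X.basicOpen_le g).trans h)) :
    RelPCAt f E m U V h := by
  obtain ⟨n, φ, hφ⟩ := hch
  refine ⟨n, φ, hφ, ?_⟩
  rw [chartPC_iff_jOf hU V _ hφ.1]
  apply pc_of_localize_cover hU (CommRingCat.ofHom φ) hφ.1 E m
  intro x hx
  obtain ⟨g, hxg, hrel⟩ := hcov x hx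
  obtain ⟨G, rfl⟩ := hφ.1 g
  refine ⟨G, hxg, ?_⟩
  have h1 := hrel.chartPC (hU.basicOpen (φ G)) (locChart φ G) (isChart_locChart hU φ hφ G)
  exact (chartPC_locChart_iff hU φ hφ G).mp h1

end Groth.Agent.Lib.Helper30.ClosedPC
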