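import Mathlib
import Groth.Prelude.Def_DerSch2
import Groth.Agent.Lib.Helper30.ClosedPC.RelPCAt

/-!
# Relative pseudo-coherence on affine pairs: change of base `V ↔ D(r)` and the covering argument
(helper30)
-/

set_option autoImplicit false
universe u
open CategoryTheory CategoryTheory.Limits AlgebraicGeometry TopologicalSpace Opposite
attribute [local instance] HasDerivedCategory.standard
attribute [local instance] MvPolynomial.algebraMvPolynomial

namespace Groth.Agent.Lib.Helper30.ClosedPC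

open Scheme.Modules Groth.Agent.Lib.Helper30.PerfRestrict
open Groth.Agent.Lib.Helper30.PCTriangle Groth.Agent.Lib.Helper6 Groth.Agent.Lib.Helper6.RestrPC

variable {X S : Scheme.{u}} {f : X ⟶ S} {E : DCoh.D X} {m : ℤ}

/-- a chart exists when the ring map is of finite type -/
lemma exists_isChart {U : X.Opens} {V : S.Opens} (h : U ≤ f ⁻¹ᵁ V)
    (hft : (f.appLE V U h).hom.FiniteType) :
    ∃ (n : ℕ) (φ : MvPolynomial (Fin n) Γ(S, V) →+* Γ(X, U)), DerSch.IsChart f U V h φ := by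
  let _ : Algebra Γ(S, V) Γ(X, U) := (f.appLE V U h).hom.toAlgebra
  have hft' : Algebra.FiniteType Γ(S, V) Γ(X, U) := hft
  obtain ⟨n, α, hα⟩ := Algebra.FiniteType.iff_quotient_mvPolynomial''.1 hft'
  refine ⟨n, (α : MvPolynomial (Fin n) Γ(S, V) →+* Γ(X, U)), hα, ?_⟩
  ext r
  exact α.commutes r

section Base

variable {U : X.Opens} (hU : IsAffineOpen U) {V : S.Opens} (hV : IsAffineOpen V) (r : Γ(S, V))
  (hU' : U ≤ f ⁻¹ᵁ S.basicOpen r)

include hV in
lemma isLocalization_mvPolynomial (n : ℕ) :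
    IsLocalization.Away (MvPolynomial.C r : MvPolynomial (Fin n) Γ(S, V))
      (MvPolynomial (Fin n) Γ(S, S.basicOpen r)) := by
  have h1 : IsLocalization.Away r Γ(S, S.basicOpen r) := hV.isLocalization_basicOpen r
  have h2 := MvPolynomial.isLocalization (σ := Fin n) (Submonoid.powers r) Γ(S, S.basicOpen r)
  rwa [Submonoid.map_powers] at h2

variable {n : ℕ} (φ' : MvPolynomial (Fin n) Γ(S, S.basicOpen r) →+* Γ(X, U))

/-- from a chart over `D(r)` to a chart over `V` -/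
noncomputable def baseChart : MvPolynomial (Fin (n + 1)) Γ(S, V) →+* Γ(X, U) :=
  haveI := isLocalization_mvPolynomial hV r n
  extChart (A' := MvPolynomial (Fin n) Γ(S, S.basicOpen r)) (MvPolynomial.C r) φ'

include hU' in
lemma isChart_baseChart (hφ' : DerSch.IsChart f U (S.basicOpen r) hU' φ') :
    DerSch.IsChart f U V (hU'.trans (f.preimage_mono (S.basicOpen_le r)))
      (baseChart hV r φ') := by
  have := isLocalization_mvPolynomial hV r n
  refine ⟨extChart_surjective _ _ hφ'.1, ?_⟩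
  ext s
  show baseChart hV r φ' (MvPolynomial.C s) = _
  rw [baseChart, extChart_C, MvPolynomial.algebraMap_def, MvPolynomial.map_C]
  have h2 : φ' (MvPolynomial.C (algebraMap Γ(S, V) Γ(S, S.basicOpen r) s)) =
      (f.appLE (S.basicOpen r) U hU').hom (algebraMap Γ(S, V) Γ(S, S.basicOpen r) s) :=
    RingHom.congr_fun hφ'.2 _
  rw [h2]
  have h3 := f.map_appLE hU' (homOfLE (S.basicOpen_le r)).op
  exact congrArg (fun ψ : Γ(S, V) ⟶ Γ(X, U) => ψ.hom s) h3

include hU in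
theorem chartPC_baseChart_iff (hφ' : Function.Surjective φ') :
    DerSch.ChartPC m E U V (baseChart hV r φ') ↔ DerSch.ChartPC m E U (S.basicOpen r) φ' := by
  have := isLocalization_mvPolynomial hV r n
  rw [chartPC_iff_jOf hU (S.basicOpen r) φ' hφ',
    chartPC_iff_jOf hU V (baseChart hV r φ') (extChart_surjective _ _ hφ')]
  exact (pc_extChart_iff (A' := MvPolynomial (Fin n) Γ(S, S.basicOpen r)) (MvPolynomial.C r) φ'
    hU hφ' _ m).symm

/-- from a chart over `V` to a chart over `D(r)` -/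
noncomputable def locBaseChart (φ : MvPolynomial (Fin n) Γ(S, V) →+* Γ(X, U)) :
    MvPolynomial (Fin n) Γ(S, S.basicOpen r) →+* Γ(X, U) :=
  MvPolynomial.eval₂Hom (f.appLE (S.basicOpen r) U hU').hom (fun i => φ (MvPolynomial.X i))

lemma isChart_locBaseChart (φ : MvPolynomial (Fin n) Γ(S, V) →+* Γ(X, U))
    (hφ : DerSch.IsChart f U V (hU'.trans (f.preimage_mono (S.basicOpen_le r))) φ) :
    DerSch.IsChart f U (S.basicOpen r) hU' (locBaseChart r hU' φ) := by
  have hcomp : (locBaseChart r hU' φ).comp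
      (MvPolynomial.map (algebraMap Γ(S, V) Γ(S, S.basicOpen r))) = φ := by
    apply MvPolynomial.ringHom_ext
    · intro s
      show locBaseChart r hU' φ (MvPolynomial.map _ (MvPolynomial.C s)) = _
      rw [MvPolynomial.map_C, locBaseChart, MvPolynomial.eval₂Hom_C]
      have h3 := f.map_appLE hU' (homOfLE (S.basicOpen_le r)).op
      have h4 : φ (MvPolynomial.C s) = _ := RingHom.congr_fun hφ.2 s
      rw [h4]
      exact congrArg (fun ψ : Γ(S, V) ⟶ Γ(X, U) => ψ.hom s) h3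
    · intro i
      show locBaseChart r hU' φ (MvPolynomial.map _ (MvPolynomial.X i)) = _
      rw [MvPolynomial.map_X, locBaseChart, MvPolynomial.eval₂Hom_X']
  refine ⟨fun b => ?_, ?_⟩
  · obtain ⟨p, rfl⟩ := hφ.1 b
    exact ⟨MvPolynomial.map (algebraMap Γ(S, V) Γ(S, S.basicOpen r)) p,
      RingHom.congr_fun hcomp p⟩
  · ext s
    show locBaseChart r hU' φ (MvPolynomial.C s) = _
    rw [locBaseChart, MvPolynomial.eval₂Hom_C]

include hU hV in
/-- change of base along a basic open of `V` -/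
theorem relPCAt_base_iff :
    RelPCAt f E m U (S.basicOpen r) hU' ↔
      RelPCAt f E m U V (hU'.trans (f.preimage_mono (S.basicOpen_le r))) := by
  constructor
  · rintro ⟨n, φ', hφ', hpc⟩
    exact ⟨n + 1, baseChart hV r φ', isChart_baseChart hV r hU' φ' hφ',
      (chartPC_baseChart_iff hU hV r φ' hφ'.1).mpr hpc⟩
  · intro hrel
    obtain ⟨n, φ, hφ, -⟩ := id hrel
    have hφ' := isChart_locBaseChart r hU' φ hφ
    refine ⟨n, locBaseChart r hU' φ, hφ', ?_⟩
    rw [← chartPC_baseChart_iff hU hV r _ hφ'.1]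
    exact hrel.chartPC hU _ (isChart_baseChart hV r hU' _ hφ')

end Base

/-- chart-form relative pseudo-coherence gives a good chart on all affine pairs -/
theorem relPCAt_of_isPseudoCoherentRel [LocallyOfFiniteType f]
    (hrel : DerSch.IsPseudoCoherentRel f m E) {U : X.Opens} (hU : IsAffineOpen U)
    {V : S.Opens} (hV : IsAffineOpen V) (h : U ≤ f ⁻¹ᵁ V) : RelPCAt f E m U V h := by
  obtain ⟨hft, 𝒱, h𝒱, H⟩ := hrel
  have hch : ∃ (n : ℕ) (φ : MvPolynomial (Fin n) Γ(S, V) →+* Γ(X, U)),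
      DerSch.IsChart f U V h φ :=
    exists_isChart h
      (HasRingHomProperty.appLE @LocallyOfFiniteType f inferInstance ⟨V, hV⟩ ⟨U, hU⟩ h)
  apply relPCAt_of_basicOpen_cover hU hch
  intro x hxU
  have hfx : f x ∈ (⨆ V ∈ 𝒱, (V : S.Opens)) := by rw [h𝒱]; trivial
  obtain ⟨V', hfx'⟩ := Opens.mem_iSup.1 hfx
  obtain ⟨hV'mem, hfxV'⟩ := Opens.mem_iSup.1 hfx'
  obtain ⟨𝒰, h𝒰, HU⟩ := H V' hV'mem
  have hx' : x ∈ (⨆ U ∈ 𝒰, (U : X.Opens)) := by rw [h𝒰]; exact hfxV'
  obtain ⟨U', hx''⟩ := Opens.mem_iSup.1 hx'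
  obtain ⟨hU'mem, hxU'⟩ := Opens.mem_iSup.1 hx''
  have hU'V' : (U' : X.Opens) ≤ f ⁻¹ᵁ (V' : S.Opens) := by
    rw [← h𝒰]
    exact le_iSup₂ (f := fun (U : X.affineOpens) (_ : U ∈ 𝒰) => (U : X.Opens)) U' hU'mem
  obtain ⟨n, φ, hφ, hpc⟩ := HU U' hU'mem hU'V'
  have r1 : RelPCAt f E m U' V' hU'V' := ⟨n, φ, hφ, hpc⟩
  obtain ⟨b, b', hbb', hfxb⟩ := exists_basicOpen_le_affine_inter hV V'.2 (f x) ⟨h hxU, hfxV'⟩
  let a' : Γ(X, (U' : X.Opens)) := f.appLE V' U' hU'V' b'
  have ha' : X.basicOpen a' = (U' : X.Opens) ⊓ f ⁻¹ᵁ (S.basicOpen b') :=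
    Scheme.basicOpen_appLE f U' V' hU'V' b'
  have hU₁ : IsAffineOpen (X.basicOpen a') := U'.2.basicOpen a'
  have r2 := relPCAt_basicOpen U'.2 r1 a'
  have hU₁b' : X.basicOpen a' ≤ f ⁻¹ᵁ (S.basicOpen b') := by rw [ha']; exact inf_le_right
  have r3 : RelPCAt f E m (X.basicOpen a') (S.basicOpen b') hU₁b' :=
    (relPCAt_base_iff hU₁ V'.2 b' hU₁b').2 r2
  have hU₁b : X.basicOpen a' ≤ f ⁻¹ᵁ (S.basicOpen b) := by rw [hbb']; exact hU₁b'
  have r4 : RelPCAt f E m (X.basicOpen a') (S.basicOpen b) hU₁b :=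
    relPCAt_congr_base hbb'.symm r3
  have r5 := (relPCAt_base_iff hU₁ hV b hU₁b).1 r4
  have hxU₁ : x ∈ X.basicOpen a' := by
    rw [ha']
    refine ⟨hxU', ?_⟩
    show f x ∈ S.basicOpen b'
    rw [← hbb']
    exact hfxb
  obtain ⟨g, g₁, hgg₁, hxg⟩ := exists_basicOpen_le_affine_inter hU hU₁ x ⟨hxU, hxU₁⟩
  have r6 := relPCAt_basicOpen hU₁ r5 g₁
  exact ⟨g, hxg, relPCAt_congr hgg₁.symm r6⟩

end Groth.Agent.Lib.Helper30.ClosedPC
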