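import Mathlib
import Groth.Prelude.Def_DCoh2
import Groth.Prelude.Def_DCoh3
import Groth.Agent.Lib.Helper30.ClosedPC.Basics
import Groth.Agent.Lib.Helper30.SigmaGE

/-!
# Termwise and cohomology-wise criteria for pseudo-coherence (helper30)

* `isPseudoCoherentD_of_homology`: `L ∈ D^{≤ b}` with `H^i(L)[0]` `(m - i)`-pseudo-coherent for
  all `i` is `m`-pseudo-coherent.
* `isPseudoCoherentD_of_terms`: a bounded above complex `K` with `K^i[0]` `(m - i)`-pseudo-coherent
  for all `i` is `m`-pseudo-coherent.
-/

set_option autoImplicit false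
universe u
open CategoryTheory CategoryTheory.Limits AlgebraicGeometry TopologicalSpace Opposite
  Pretriangulated ZeroObject
attribute [local instance] HasDerivedCategory.standard

namespace Groth.Agent.Lib.Helper30.ClosedPC

open Groth.Agent.Lib.Helper30.PerfRestrict Groth.Agent.Lib.Helper30.PCTriangle
open Groth.Agent.Lib.Helper30.PCNoeth Groth.Agent.Lib.Helper30.SigmaGE
open Groth.Agent.Lib.Helper30.PCSummand

variable {Y : Scheme.{u}}

lemma pc_inD_of_isZero {M : Y.Modules} (hM : IsZero M) (m : ℤ) :
    DCoh.IsPseudoCoherentD m (DCoh.inD Y M) :=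
  (PCAll Y).prop_of_isZero ((DerivedCategory.singleFunctor Y.Modules 0).map_isZero hM) m

lemma pc_single_of_pc_inD (M : Y.Modules) (a m : ℤ)
    (h : DCoh.IsPseudoCoherentD (m - a) (DCoh.inD Y M)) :
    DCoh.IsPseudoCoherentD m ((DerivedCategory.singleFunctor Y.Modules a).obj M) := by
  have h1 := isPseudoCoherentD_shift _ (m - a) (-a) h
  have e : m - a - -a = m := by omega
  rw [e] at h1
  exact isPseudoCoherentD_of_iso (singleShiftIso Y M a) m h1

theorem isPseudoCoherentD_of_homology_aux (k : ℕ) :
    ∀ (L : DCoh.D Y) (b m : ℤ), L.IsLE b → b < m + k →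
      (∀ i : ℤ, DCoh.IsPseudoCoherentD (m - i) (DCoh.inD Y (DCoh.HD L i))) →
      DCoh.IsPseudoCoherentD m L := by
  induction k with
  | zero =>
    intro L b m hb hbm _
    exact isPseudoCoherentD_of_isLE L b m (by simpa using hbm)
  | succ k ih =>
    intro L b m hb hbm hpc
    let t := DerivedCategory.TStructure.t (C := Y.Modules)
    let T := (t.triangleLEGE (b - 1) b (by omega)).obj L
    have hT : T ∈ distTriang _ := t.triangleLEGE_distinguished (b - 1) b (by omega) L
    have hle1 : T.obj₁.IsLE (b - 1) :=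
      inferInstanceAs (t.IsLE ((t.truncLE (b - 1)).obj L) (b - 1))
    have hge3 : T.obj₃.IsGE b := inferInstanceAs (t.IsGE ((t.truncGE b).obj L) b)
    have hle3 : T.obj₃.IsLE b := inferInstanceAs (t.IsLE ((t.truncGE b).obj L) b)
    have h1 : DCoh.IsPseudoCoherentD m T.obj₁ := by
      refine ih T.obj₁ (b - 1) m hle1 (by push_cast at hbm; omega) (fun i => ?_)
      by_cases hib : i < b
      · have hiso := isIso_homology_mor₁ T hT (i - 1) i (by omega)
          (DerivedCategory.isZero_of_isGE T.obj₃ b (i - 1) (by omega))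
          (DerivedCategory.isZero_of_isGE T.obj₃ b i hib)
        exact isPseudoCoherentD_of_iso ((DerivedCategory.singleFunctor Y.Modules 0).mapIso
          (asIso ((DerivedCategory.homologyFunctor _ i).map T.mor₁)).symm) _ (hpc i)
      · exact pc_inD_of_isZero
          (DerivedCategory.isZero_of_isLE T.obj₁ (b - 1) i (by omega)) _
    obtain ⟨M, ⟨e⟩⟩ := DerivedCategory.exists_iso_singleFunctor_obj_of_isGE_of_isLE T.obj₃ b
    have hiso := isIso_homology_mor₂ T hT b (b + 1) rfl
      (DerivedCategory.isZero_of_isLE T.obj₁ (b - 1) b (by omega))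
      (DerivedCategory.isZero_of_isLE T.obj₁ (b - 1) (b + 1) (by omega))
    let θ₀ := @asIso _ _ _ _ ((DerivedCategory.homologyFunctor Y.Modules b).map T.mor₂) hiso
    let θ : DCoh.HD L b ≅ M := θ₀ ≪≫
      (DerivedCategory.homologyFunctor _ b).mapIso e ≪≫ (homologySingleIso' Y.Modules b).app M
    have hM : DCoh.IsPseudoCoherentD (m - b) (DCoh.inD Y M) :=
      isPseudoCoherentD_of_iso ((DerivedCategory.singleFunctor Y.Modules 0).mapIso θ) _ (hpc b)
    have h3 : DCoh.IsPseudoCoherentD m T.obj₃ :=
      isPseudoCoherentD_of_iso e.symm m (pc_single_of_pc_inD M b m hM)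
    exact (Groth.Agent.S0889.result m T hT).2.1 h1 h3

/-- cohomology-wise criterion -/
theorem isPseudoCoherentD_of_homology (L : DCoh.D Y) (b m : ℤ) [L.IsLE b]
    (h : ∀ i : ℤ, DCoh.IsPseudoCoherentD (m - i) (DCoh.inD Y (DCoh.HD L i))) :
    DCoh.IsPseudoCoherentD m L :=
  isPseudoCoherentD_of_homology_aux (b - m + 1).toNat L b m inferInstance (by omega) h

theorem isPseudoCoherentD_of_terms_aux (k : ℕ) :
    ∀ (K : CochainComplex Y.Modules ℤ) (a b m : ℤ), (∀ i, i < a → IsZero (K.X i)) →
      (∀ i, b < i → IsZero (K.X i)) → b < a + k →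
      (∀ i : ℤ, DCoh.IsPseudoCoherentD (m - i) (DCoh.inD Y (K.X i))) →
      DCoh.IsPseudoCoherentD m (DerivedCategory.Q.obj K) := by
  induction k with
  | zero =>
    intro K a b m ha hb hab _
    have hz : ∀ i, IsZero (K.X i) := fun i => by
      by_cases hi : i < a
      · exact ha i hi
      · exact hb i (by push_cast at hab; omega)
    have : (DerivedCategory.Q.obj K).IsLE (m - 1) := by
      rw [DerivedCategory.isLE_iff]
      intro i _
      exact isZero_homology_Q_of_isZero_X K i (hz i)
    exact isPseudoCoherentD_of_isLE _ (m - 1) m (by omega)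
  | succ k ih =>
    intro K a b m ha hb hab hpc
    have hS := sc_shortExact K (a + 1)
    let T := DerivedCategory.triangleOfSES hS
    have hT : T ∈ distTriang _ := DerivedCategory.triangleOfSES_distinguished hS
    -- the first term
    have h1 : DCoh.IsPseudoCoherentD m (DerivedCategory.Q.obj (sigmaGE K (a + 1))) := by
      refine ih (sigmaGE K (a + 1)) (a + 1) b m (fun i hi => isZero_sigmaGE_X K (a + 1) i hi)
        (fun i hi => ?_) (by push_cast at hab; omega) (fun i => ?_)
      · by_cases hia : i < a + 1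
        · exact isZero_sigmaGE_X K (a + 1) i hia
        · have := isIso_ιGE_f K (a + 1) i (by omega)
          exact (hb i hi).of_iso (asIso ((ιGE K (a + 1)).f i))
      · by_cases hia : i < a + 1
        · exact pc_inD_of_isZero (isZero_sigmaGE_X K (a + 1) i hia) _
        · have := isIso_ιGE_f K (a + 1) i (by omega)
          exact isPseudoCoherentD_of_iso ((DerivedCategory.singleFunctor Y.Modules 0).mapIso
            (asIso ((ιGE K (a + 1)).f i)).symm) _ (hpc i)
    -- the third term
    have h3 : DCoh.IsPseudoCoherentD m (DerivedCategory.Q.obj (sigmaLT K (a + 1))) := by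
      have hge : (sigmaLT K (a + 1)).IsStrictlyGE a := by
        rw [CochainComplex.isStrictlyGE_iff]
        intro i hi
        have := isIso_πLT_f K (a + 1) i (by omega)
        exact (ha i hi).of_iso (asIso ((πLT K (a + 1)).f i)).symm
      have hle : (sigmaLT K (a + 1)).IsStrictlyLE a := by
        rw [CochainComplex.isStrictlyLE_iff]
        intro i hi
        exact isZero_sigmaLT_X K (a + 1) i (by omega)
      obtain ⟨M, ⟨e⟩⟩ := CochainComplex.exists_iso_single (sigmaLT K (a + 1)) a
      have := isIso_πLT_f K (a + 1) a (by omega)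
      let θ : K.X a ≅ M := asIso ((πLT K (a + 1)).f a) ≪≫
        (HomologicalComplex.eval _ _ a).mapIso e ≪≫
        HomologicalComplex.singleObjXSelf (ComplexShape.up ℤ) a M
      have hM : DCoh.IsPseudoCoherentD (m - a) (DCoh.inD Y M) :=
        isPseudoCoherentD_of_iso ((DerivedCategory.singleFunctor Y.Modules 0).mapIso θ) _ (hpc a)
      exact isPseudoCoherentD_of_iso
        (((DerivedCategory.singleFunctorIsoCompQ Y.Modules a).app M) ≪≫
          DerivedCategory.Q.mapIso e.symm) m (pc_single_of_pc_inD M a m hM)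
    exact (Groth.Agent.S0889.result m T hT).2.1 h1 h3

/-- termwise criterion -/
theorem isPseudoCoherentD_of_terms (K : CochainComplex Y.Modules ℤ) (b m : ℤ)
    (hb : ∀ i, b < i → IsZero (K.X i))
    (h : ∀ i : ℤ, DCoh.IsPseudoCoherentD (m - i) (DCoh.inD Y (K.X i))) :
    DCoh.IsPseudoCoherentD m (DerivedCategory.Q.obj K) := by
  have hS := sc_shortExact K m
  let T := DerivedCategory.triangleOfSES hS
  have hT : T ∈ distTriang _ := DerivedCategory.triangleOfSES_distinguished hS
  have h1 : DCoh.IsPseudoCoherentD m (DerivedCategory.Q.obj (sigmaGE K m)) := by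
    refine isPseudoCoherentD_of_terms_aux (b - m + 1).toNat (sigmaGE K m) m b m
      (fun i hi => isZero_sigmaGE_X K m i hi) (fun i hi => ?_) (by omega) (fun i => ?_)
    · by_cases hia : i < m
      · exact isZero_sigmaGE_X K m i hia
      · have := isIso_ιGE_f K m i (by omega)
        exact (hb i hi).of_iso (asIso ((ιGE K m).f i))
    · by_cases hia : i < m
      · exact pc_inD_of_isZero (isZero_sigmaGE_X K m i hia) _
      · have := isIso_ιGE_f K m i (by omega)
        exact isPseudoCoherentD_of_iso ((DerivedCategory.singleFunctor Y.Modules 0).mapIso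
          (asIso ((ιGE K m).f i)).symm) _ (h i)
  have h3 : DCoh.IsPseudoCoherentD m (DerivedCategory.Q.obj (sigmaLT K m)) := by
    have : (DerivedCategory.Q.obj (sigmaLT K m)).IsLE (m - 1) := by
      rw [DerivedCategory.isLE_iff]
      intro i hi
      exact isZero_homology_Q_of_isZero_X _ i (isZero_sigmaLT_X K m i (by omega))
    exact isPseudoCoherentD_of_isLE _ (m - 1) m (by omega)
  exact (Groth.Agent.S0889.result m T hT).2.1 h1 h3

end Groth.Agent.Lib.Helper30.ClosedPC
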