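import Mathlib
import Groth.Prelude.Def_DerSch2
import Groth.Agent.Lib.Helper30.ClosedPC.RelPCBase
import Groth.Agent.Lib.Helper30.ClosedPC.Termwise

/-!
# Termwise and cohomology-wise criteria for relative pseudo-coherence (helper30)
-/

set_option autoImplicit false
universe u
open CategoryTheory CategoryTheory.Limits AlgebraicGeometry TopologicalSpace Opposite
attribute [local instance] HasDerivedCategory.standard

namespace Groth.Agent.Lib.Helper30.ClosedPC

open Scheme.Modules Groth.Agent.Lib.Helper30.PerfRestrict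
open Groth.Agent.Lib.Helper30.PCTriangle Groth.Agent.Lib.Helper30.PCNoeth
open Groth.Agent.Lib.Helper30.SinglePC Groth.Agent.Lib.Helper6

variable {X S : Scheme.{u}} {f : X ⟶ S} {m : ℤ}

/-- `j_*((M[0])|_U) ≅ (j_*(M|_U))[0]` -/
noncomputable def pushRestrictSingleIso {U Y : Scheme.{u}} (k : U ⟶ X) [IsOpenImmersion k]
    (j : U ⟶ Y) [IsClosedImmersion j] (M : X.Modules) :
    (cD j).obj ((rD k).obj (DCoh.inD X M)) ≅
      DCoh.inD Y ((pushforward j).obj (M.restrict k)) :=
  (cD j).mapIso (restrictSingleIso k M) ≪≫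
    ((pushforward j).mapDerivedCategorySingleFunctor 0).app _

/-- cohomology-wise criterion on an affine pair -/
theorem relPCAt_of_homology [LocallyOfFiniteType f] (E : DCoh.D X) (b : ℤ) [E.IsLE b]
    (h : ∀ i : ℤ, DerSch.IsPseudoCoherentRel f (m - i) (DCoh.inD X (DCoh.HD E i)))
    {U : X.Opens} (hU : IsAffineOpen U) {V : S.Opens} (hV : IsAffineOpen V)
    (hle : U ≤ f ⁻¹ᵁ V) : RelPCAt f E m U V hle := by
  obtain ⟨n, φ, hφ⟩ := exists_isChart hle
    (HasRingHomProperty.appLE @LocallyOfFiniteType f inferInstance ⟨V, hV⟩ ⟨U, hU⟩ hle)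
  refine ⟨n, φ, hφ, ?_⟩
  rw [chartPC_iff_jOf hU V φ hφ.1]
  have hj := isClosedImmersion_jOf hU (CommRingCat.ofHom φ) hφ.1
  have h1 : ((rD U.ι).obj E).IsLE b := ExactDC.isLE_obj _ b
  have h2 : ((cD (jOf U (CommRingCat.ofHom φ))).obj ((rD U.ι).obj E)).IsLE b :=
    ExactDC.isLE_obj _ b
  apply isPseudoCoherentD_of_homology _ b m
  intro i
  have hi := (relPCAt_of_isPseudoCoherentRel (h i) hU hV hle).chartPC hU φ hφ
  rw [chartPC_iff_jOf hU V φ hφ.1] at hi
  refine isPseudoCoherentD_of_iso (pushRestrictSingleIso U.ι (jOf U (CommRingCat.ofHom φ)) _ ≪≫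
    (DerivedCategory.singleFunctor _ 0).mapIso ?_) _ hi
  exact ((pushforward (jOf U (CommRingCat.ofHom φ))).mapIso
    (homologyRestrictIso U.ι E i)).symm ≪≫
    ((ExactDC.homologyIso (pushforward (jOf U (CommRingCat.ofHom φ))) i).app _).symm

/-- termwise criterion on an affine pair -/
theorem relPCAt_of_terms [LocallyOfFiniteType f] (F : CochainComplex X.Modules ℤ) (b : ℤ)
    (hb : ∀ i : ℤ, b < i → IsZero (F.X i))
    (h : ∀ i : ℤ, DerSch.IsPseudoCoherentRel f (m - i) (DCoh.inD X (F.X i)))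
    {U : X.Opens} (hU : IsAffineOpen U) {V : S.Opens} (hV : IsAffineOpen V)
    (hle : U ≤ f ⁻¹ᵁ V) : RelPCAt f (DCoh.toD X F) m U V hle := by
  obtain ⟨n, φ, hφ⟩ := exists_isChart hle
    (HasRingHomProperty.appLE @LocallyOfFiniteType f inferInstance ⟨V, hV⟩ ⟨U, hU⟩ hle)
  refine ⟨n, φ, hφ, ?_⟩
  rw [chartPC_iff_jOf hU V φ hφ.1]
  have hj := isClosedImmersion_jOf hU (CommRingCat.ofHom φ) hφ.1
  let K := (cC (jOf U (CommRingCat.ofHom φ))).obj ((rC U.ι).obj F)
  have hK : DCoh.IsPseudoCoherentD m (DerivedCategory.Q.obj K) := by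
    apply isPseudoCoherentD_of_terms K b m
    · intro i hi
      exact (pushforward (jOf U (CommRingCat.ofHom φ))).map_isZero
        ((restrictFunctor U.ι).map_isZero (hb i hi))
    · intro i
      have hi := (relPCAt_of_isPseudoCoherentRel (h i) hU hV hle).chartPC hU φ hφ
      rw [chartPC_iff_jOf hU V φ hφ.1] at hi
      exact isPseudoCoherentD_of_iso
        (pushRestrictSingleIso U.ι (jOf U (CommRingCat.ofHom φ)) (F.X i)) _ hi
  exact isPseudoCoherentD_of_iso (((cDQ (jOf U (CommRingCat.ofHom φ))).app _).symm ≪≫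
    (cD (jOf U (CommRingCat.ofHom φ))).mapIso ((rDQ U.ι).app F).symm) m hK

end Groth.Agent.Lib.Helper30.ClosedPC
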